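import Mathlib
import Cfsg.Agent.MaxClassP.Section

/-!
Commutators along a chain `g (j+1) = ⁅s, g j⁆` in the lower central series of a group, modulo
the next term: the first nontrivial value of `⁅g k, g 0⁆` occurs for odd `k`, and then the next
value is determined by it.
-/

set_option autoImplicit false

open Subgroup
open scoped commutatorElement

namespace Cfsg.Agent.MCE

open MaxClassP (lcs)

variable {Q : Type*} [Group Q] [Finite Q]

theorem comm_mem_lcs {u v : Q} {a b N : ℕ} (ha : u ∈ lcs Q a) (hb : v ∈ lcs Q b)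
    (hN : N ≤ a + b + 1) : ⁅u, v⁆ ∈ lcs Q N :=
  Subgroup.lowerCentralSeries_antitone _ hN
    (MaxClassP.comm_lcs a b (commutator_mem_commutator ha hb))

theorem mem_lcs_zero (u : Q) : u ∈ lcs Q 0 := mem_top u

/-- The class modulo `L N`. -/
abbrev q (N : ℕ) : Q →* Q ⧸ lcs Q N := QuotientGroup.mk' (lcs Q N)

theorem q_eq_one {N : ℕ} {x : Q} : q N x = 1 ↔ x ∈ lcs Q N := QuotientGroup.eq_one_iff x

theorem q_commute {x y : Q} {a b N : ℕ} (ha : x ∈ lcs Q a) (hb : y ∈ lcs Q b)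
    (hN : N ≤ a + b + 1) : Commute (q N x) (q N y) := by
  rw [commute_iff_eq, ← commutatorElement_eq_one_iff_mul_comm, ← map_commutatorElement]
  exact q_eq_one.2 (comm_mem_lcs ha hb hN)

theorem q_central {x : Q} {a N : ℕ} (ha : x ∈ lcs Q a) (hN : N ≤ a + 1) (y : Q) :
    Commute (q N x) (q N y) :=
  q_commute ha (mem_lcs_zero y) (by omega)

/-- The derivation rule. -/
theorem deriv {u v w : Q} {a b N : ℕ} (ha : u ∈ lcs Q a) (hb : v ∈ lcs Q b) (hN : N ≤ a + b + 3) :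
    q N ⁅w, ⁅u, v⁆⁆ = q N ⁅u, ⁅w, v⁆⁆ * q N ⁅⁅w, u⁆, v⁆ := by
  set x := ⁅w, u⁆ with hx
  set y := ⁅w, v⁆ with hy
  have hxm : x ∈ lcs Q (a + 1) := comm_mem_lcs (mem_lcs_zero w) ha (by omega)
  have hym : y ∈ lcs Q (b + 1) := comm_mem_lcs (mem_lcs_zero w) hb (by omega)
  have hD : ⁅u, v⁆ ∈ lcs Q (a + b + 1) := comm_mem_lcs ha hb le_rfl
  have hA : ⁅u, y⁆ ∈ lcs Q (a + b + 2) := comm_mem_lcs ha hym (by omega)
  have hB : ⁅x, v⁆ ∈ lcs Q (a + b + 2) := comm_mem_lcs hxm hb (by omega)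
  have key : ⁅w, ⁅u, v⁆⁆ = x * (⁅u, y⁆ * (y * ⁅u, v⁆ * y⁻¹)) * x⁻¹ *
      (⁅x, y⁆ * (y * ⁅x, v⁆ * y⁻¹)) * ⁅u, v⁆⁻¹ := by
    simp only [hx, hy, commutatorElement_def]
    group
  rw [key]
  have h1 : q N ⁅x, y⁆ = 1 := q_eq_one.2 (comm_mem_lcs hxm hym (by omega))
  have h2 := q_commute (N := N) hym hD (by omega)
  have h3 := q_commute (N := N) hxm hD (by omega)
  have h4 := q_central (N := N) hA (by omega) x
  have h5 := q_central (N := N) hB (by omega) y
  have h6 := q_central (N := N) hB (by omega) ⁅u, v⁆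
  simp only [map_mul, map_inv, h1, one_mul]
  rw [h2.eq, mul_inv_cancel_right, ← h5.eq, mul_inv_cancel_right, ← mul_assoc (q N x),
    ← h4.eq, mul_assoc (q N ⁅u, y⁆), h3.eq, ← mul_assoc, mul_inv_cancel_right,
    mul_assoc (q N ⁅u, y⁆), ← h6.eq, ← mul_assoc, mul_inv_cancel_right]

/-- Commutation with a fixed element on a term of the series, two steps down. -/
def comHom (w : Q) (N : ℕ) : lcs Q N →* Q ⧸ lcs Q (N + 2) where
  toFun x := q (N + 2) ⁅w, (x : Q)⁆
  map_one' := by rw [OneMemClass.coe_one, commutatorElement_one_right, map_one]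
  map_mul' x y := by
    have hy : ⁅w, (y : Q)⁆ ∈ lcs Q (N + 1) := comm_mem_lcs (mem_lcs_zero w) y.2 (by omega)
    have e : ⁅w, ((x * y : lcs Q N) : Q)⁆ = ⁅w, (x : Q)⁆ * ((x : Q) * ⁅w, (y : Q)⁆ * (x : Q)⁻¹) := by
      rw [Subgroup.coe_mul]
      simp only [commutatorElement_def]
      group
    rw [e, map_mul, map_mul, map_mul, ← (q_central (N := N + 2) hy (by omega) (x : Q)).eq, map_inv,
      mul_inv_cancel_right]

theorem comHom_congr {w x y : Q} {N : ℕ} (hx : x ∈ lcs Q N) (hy : y ∈ lcs Q N)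
    (h : q (N + 1) x = q (N + 1) y) : comHom w N ⟨x, hx⟩ = comHom w N ⟨y, hy⟩ := by
  have hd : x⁻¹ * y ∈ lcs Q (N + 1) := by
    rw [← q_eq_one, map_mul, map_inv, h, inv_mul_cancel]
  have hdN : x⁻¹ * y ∈ lcs Q N := Subgroup.lowerCentralSeries_antitone _ (Nat.le_succ N) hd
  have : comHom w N ⟨x⁻¹ * y, hdN⟩ = 1 :=
    q_eq_one.2 (comm_mem_lcs (mem_lcs_zero w) hd (by omega))
  calc comHom w N ⟨x, hx⟩ = comHom w N ⟨x, hx⟩ * comHom w N ⟨x⁻¹ * y, hdN⟩ := by
        rw [this, mul_one]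
    _ = comHom w N ⟨y, hy⟩ := by
        rw [← map_mul]
        exact congrArg _ (Subtype.ext (mul_inv_cancel_left x y))

section Chain

variable {s : Q} {g : ℕ → Q} (hg : ∀ j, g (j + 1) = ⁅s, g j⁆)
include hg

theorem chain_mem (j : ℕ) : g j ∈ lcs Q j := by
  induction j with
  | zero => exact mem_lcs_zero _
  | succ j ih => rw [hg]; exact comm_mem_lcs (mem_lcs_zero s) ih (by omega)

theorem chain_step (a b N : ℕ) (hN : N ≤ a + b + 3) :
    q N ⁅s, ⁅g a, g b⁆⁆ = q N ⁅g a, g (b + 1)⁆ * q N ⁅g (a + 1), g b⁆ := by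
  rw [hg b, hg a]
  exact deriv (chain_mem hg a) (chain_mem hg b) hN

variable {k : ℕ} (hzero : ∀ i < k, ⁅g i, g 0⁆ ∈ lcs Q (i + 2))
include hzero

theorem chain_zero : ∀ b a, a + b < k → ⁅g a, g b⁆ ∈ lcs Q (a + b + 2) := by
  intro b
  induction b with
  | zero => intro a h; simpa using hzero a (by omega)
  | succ b ih =>
    intro a h
    have h1 : q (a + b + 3) ⁅s, ⁅g a, g b⁆⁆ = 1 :=
      q_eq_one.2 (comm_mem_lcs (mem_lcs_zero s) (ih a (by omega)) (by omega))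
    have h2 : q (a + b + 3) ⁅g (a + 1), g b⁆ = 1 := by
      refine q_eq_one.2 ?_
      have := ih (a + 1) (by omega)
      rwa [show a + 1 + b + 2 = a + b + 3 by omega] at this
    rw [chain_step hg a b _ le_rfl, h2, mul_one] at h1
    rw [show a + (b + 1) + 2 = a + b + 3 by omega]
    exact q_eq_one.1 h1

theorem chain_first : ∀ b a, a + b = k →
    q (k + 2) ⁅g a, g b⁆ = q (k + 2) ⁅g k, g 0⁆ ^ ((-1 : ℤ) ^ b) := by
  intro b
  induction b with
  | zero => intro a h; rw [show a = k by omega, pow_zero, zpow_one]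
  | succ b ih =>
    intro a h
    have h1 : q (k + 2) ⁅s, ⁅g a, g b⁆⁆ = 1 :=
      q_eq_one.2 (comm_mem_lcs (mem_lcs_zero s) (chain_zero hg hzero b a (by omega)) (by omega))
    rw [chain_step hg a b _ (by omega), ih (a + 1) (by omega)] at h1
    rw [eq_inv_of_mul_eq_one_left h1, ← zpow_neg]
    congr 1
    ring

theorem chain_second : ∀ b a, a + b = k + 1 →
    q (k + 3) ⁅g a, g b⁆ = (q (k + 3) ⁅g (k + 1), g 0⁆ *
      (q (k + 3) ⁅s, ⁅g k, g 0⁆⁆ ^ (b : ℤ))⁻¹) ^ ((-1 : ℤ) ^ b) := by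
  intro b
  induction b with
  | zero => intro a h; rw [show a = k + 1 by omega, pow_zero, zpow_one, Int.natCast_zero, zpow_zero, inv_one, mul_one]
  | succ b ih =>
    intro a h
    have hX : ⁅g k, g 0⁆ ∈ lcs Q (k + 1) :=
      comm_mem_lcs (chain_mem hg k) (mem_lcs_zero _) (by omega)
    have hD : ⁅g a, g b⁆ ∈ lcs Q (k + 1) :=
      comm_mem_lcs (chain_mem hg a) (chain_mem hg b) (by omega)
    set c := q (k + 3) ⁅s, ⁅g k, g 0⁆⁆ with hc
    set d := q (k + 3) ⁅g (k + 1), g 0⁆ with hd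
    have hcd : Commute c d := (q_central (N := k + 3)
      (comm_mem_lcs (mem_lcs_zero s) hX (show k + 2 ≤ _ by omega)) (by omega) _)
    have h1 : q (k + 3) ⁅s, ⁅g a, g b⁆⁆ = c ^ ((-1 : ℤ) ^ b) := by
      have h2 : comHom s (k + 1) ⟨_, hD⟩ =
          comHom s (k + 1) (⟨_, hX⟩ ^ ((-1 : ℤ) ^ b)) :=
        comHom_congr hD (zpow_mem hX _) (by
          rw [map_zpow]; exact chain_first hg hzero b a (by omega))
      rw [map_zpow] at h2
      exact h2
    rw [chain_step hg a b _ (by omega), ih (a + 1) (by omega)] at h1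
    set f : ℤ := (-1) ^ b with hf
    have hcomm : Commute d ((c ^ (b : ℤ))⁻¹) := (hcd.symm.zpow_right _).inv_right
    have hcomm' : Commute d ((c ^ ((b + 1 : ℕ) : ℤ))⁻¹) := (hcd.symm.zpow_right _).inv_right
    rw [eq_mul_inv_of_mul_eq h1, ← zpow_neg, hcomm.mul_zpow,
      show ((-1 : ℤ) ^ (b + 1)) = -f by rw [hf]; ring, hcomm'.mul_zpow, ← zpow_neg, ← zpow_neg,
      ← zpow_mul, ← zpow_mul, ← mul_assoc, ((hcd.zpow_left f).zpow_right (-f)).eq, mul_assoc,
      ← zpow_add]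
    congr 2
    push_cast
    ring

/-- The first nontrivial value occurs for an odd index. -/
theorem odd_first (hne : ⁅g k, g 0⁆ ∉ lcs Q (k + 2)) : Odd k := by
  by_contra h
  obtain ⟨a, rfl⟩ := Nat.not_odd_iff_even.1 h
  refine hne (q_eq_one.1 ?_)
  have h1 := chain_first hg hzero a a rfl
  rw [commutatorElement_self, map_one] at h1
  rcases neg_one_pow_eq_or ℤ a with e | e <;> rw [e] at h1
  · exact (h1.trans (zpow_one _)).symm
  · exact inv_eq_one.1 (h1.trans (zpow_neg_one _)).symm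

/-- The value after the first nontrivial one, and the action of `g 0` on the first one. -/
theorem second_value {h : ℕ} (hk : k + 1 = 2 * h) (hk2 : 2 ≤ k) :
    q (k + 3) ⁅g (k + 1), g 0⁆ = q (k + 3) ⁅s, ⁅g k, g 0⁆⁆ ^ h ∧
      ⁅g 0, ⁅g k, g 0⁆⁆ ∈ lcs Q (k + 3) := by
  constructor
  · have h1 := chain_second hg hzero h h (by omega)
    rw [commutatorElement_self, map_one] at h1
    have h2 : q (k + 3) ⁅g (k + 1), g 0⁆ *
        (q (k + 3) ⁅s, ⁅g k, g 0⁆⁆ ^ (h : ℤ))⁻¹ = 1 := by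
      rcases neg_one_pow_eq_or ℤ h with e | e <;> rw [e] at h1
      · exact (h1.trans (zpow_one _)).symm
      · exact inv_eq_one.1 (h1.trans (zpow_neg_one _)).symm
    rw [mul_inv_eq_one, zpow_natCast] at h2
    exact h2
  · obtain ⟨c, rfl⟩ : ∃ c, h = c + 1 := ⟨h - 1, by omega⟩
    have hX : ⁅g k, g 0⁆ ∈ lcs Q (k + 1) :=
      comm_mem_lcs (chain_mem hg k) (mem_lcs_zero _) (by omega)
    have hD : ⁅g c, g (c + 1)⁆ ∈ lcs Q (k + 1) :=
      comm_mem_lcs (chain_mem hg c) (chain_mem hg (c + 1)) (by omega)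
    have h1 : q (k + 3) ⁅g 0, ⁅g c, g (c + 1)⁆⁆ = 1 := by
      rw [deriv (chain_mem hg c) (chain_mem hg (c + 1)) (by omega)]
      have hA : ⁅g 0, g (c + 1)⁆ ∈ lcs Q (c + 3) := by
        rw [← commutatorElement_inv]
        exact inv_mem (hzero (c + 1) (by omega))
      have hB : ⁅g 0, g c⁆ ∈ lcs Q (c + 2) := by
        rw [← commutatorElement_inv]
        exact inv_mem (hzero c (by omega))
      rw [q_eq_one.2 (comm_mem_lcs (chain_mem hg c) hA (by omega)),
        q_eq_one.2 (comm_mem_lcs hB (chain_mem hg (c + 1)) (by omega)), one_mul]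
    have h2 : comHom (g 0) (k + 1) ⟨_, hD⟩ =
        comHom (g 0) (k + 1) (⟨_, hX⟩ ^ ((-1 : ℤ) ^ (c + 1))) :=
      comHom_congr hD (zpow_mem hX _) (by
        rw [map_zpow]; exact chain_first hg hzero (c + 1) c (by omega))
    rw [map_zpow] at h2
    have h3 : q (k + 3) ⁅g 0, ⁅g k, g 0⁆⁆ ^ ((-1 : ℤ) ^ (c + 1)) = 1 := h2.symm.trans h1
    refine q_eq_one.1 ?_
    rcases neg_one_pow_eq_or ℤ (c + 1) with e | e <;> rw [e] at h3
    · exact (zpow_one _).symm.trans h3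
    · exact inv_eq_one.1 ((zpow_neg_one _).symm.trans h3)

end Chain

end Cfsg.Agent.MCE
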