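import Mathlib
import Cfsg.Agent.MCE.Jacobi
import Cfsg.Agent.MaxClassP.Gamma

/-!
In a `p`-group of maximal class all two-step centralisers except possibly the last one coincide,
and if the last one differs the group has odd class.
-/

set_option autoImplicit false

open Subgroup
open scoped commutatorElement

namespace Cfsg.Agent.MCE

open MaxClassP (lcs twoStep)

variable {Q : Type*} [Group Q] [Finite Q]

theorem mem_twoStep' {g : Q} {i : ℕ} :
    g ∈ twoStep Q i ↔ ∀ y ∈ lcs Q i, ⁅g, y⁆ ∈ lcs Q (i + 2) := by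
  rw [MaxClassP.mem_twoStep]
  constructor
  · intro h y hy
    have h1 := inv_mem (h _ (inv_mem hy))
    simpa [commutatorElement_def, mul_assoc] using h1
  · intro h y hy
    have h1 := inv_mem (h _ (inv_mem hy))
    simpa [commutatorElement_def, mul_assoc] using h1

theorem lcs_one_le_twoStep (i : ℕ) : lcs Q 1 ≤ twoStep Q i := fun _ hg =>
  mem_twoStep'.2 fun _ hy => comm_mem_lcs hg hy (by omega)

/-- Commutation with a fixed element of a term of the series, two steps down. -/
def leftCom {y : Q} {N : ℕ} (hy : y ∈ lcs Q N) : Q →* Q ⧸ lcs Q (N + 2) where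
  toFun g := q (N + 2) ⁅g, y⁆
  map_one' := by rw [commutatorElement_one_left, map_one]
  map_mul' g g' := by
    have h1 : ⁅g', y⁆ ∈ lcs Q (N + 1) := comm_mem_lcs (mem_lcs_zero g') hy (by omega)
    have e : ⁅g * g', y⁆ = g * ⁅g', y⁆ * g⁻¹ * ⁅g, y⁆ := by
      simp only [commutatorElement_def]
      group
    rw [e, map_mul, map_mul, map_mul, map_inv, ← (q_central (N := N + 2) h1 (by omega) g).eq,
      mul_inv_cancel_right, (q_central (N := N + 2) h1 (by omega) ⁅g, y⁆).eq]

section

variable {p : ℕ} [Fact p.Prime] {m : ℕ}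
  (hord : Nat.card Q = p ^ (m + 1))
  (hcard : ∀ j, 1 ≤ j → j ≤ m → Nat.card (lcs Q j) = p ^ (m - j))

include hcard

theorem mem_twoStep_of {g y : Q} {j : ℕ} (hj : 1 ≤ j) (hjm : j < m) (hy : y ∈ lcs Q j)
    (hy' : y ∉ lcs Q (j + 1)) (h : ⁅g, y⁆ ∈ lcs Q (j + 2)) : g ∈ twoStep Q j := by
  by_contra hg
  refine hy' (MaxClassP.mem_succ_of_comm hcard hj hjm hg hy ?_)
  rw [← commutatorElement_inv]
  exact inv_mem h

theorem comm_not_mem {g y : Q} {j : ℕ} (hj : 1 ≤ j) (hjm : j < m) (hy : y ∈ lcs Q j)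
    (hy' : y ∉ lcs Q (j + 1)) (hg : g ∉ twoStep Q j) : ⁅g, y⁆ ∉ lcs Q (j + 2) :=
  fun h => hg (mem_twoStep_of hcard hj hjm hy hy' h)

include hord

omit [Fact p.Prime] hcard in
theorem isPGroup' : IsPGroup p Q := IsPGroup.of_card hord

theorem eq_of_mem (hm : 2 ≤ m) {H K : Subgroup Q} (hH : lcs Q 1 ≤ H) (hK : lcs Q 1 ≤ K)
    (hH' : H ≠ ⊤) (hK' : K ≠ ⊤) {g : Q} (hgH : g ∈ H) (hgK : g ∈ K) (hg : g ∉ lcs Q 1) :
    H = K := by
  suffices ∀ H : Subgroup Q, lcs Q 1 ≤ H → H ≠ ⊤ → g ∈ H → H = lcs Q 1 ⊔ zpowers g from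
    (this H hH hH' hgH).trans (this K hK hK' hgK).symm
  intro H hH hH' hgH
  have hp := (Fact.out : p.Prime)
  have hQ := isPGroup' hord
  set M := lcs Q 1 ⊔ zpowers g
  have hMH : M ≤ H := sup_le hH (zpowers_le.2 hgH)
  have h1 : lcs Q 1 < M := lt_of_le_of_ne le_sup_left fun e =>
    hg (e ▸ (le_sup_right : zpowers g ≤ M) (mem_zpowers g))
  obtain ⟨a, ha⟩ := IsPGroup.iff_card.1 (hQ.to_subgroup M)
  obtain ⟨b, hb⟩ := IsPGroup.iff_card.1 (hQ.to_subgroup H)
  have h2 : Nat.card (lcs Q 1) < Nat.card M :=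
    Set.ncard_lt_ncard (SetLike.coe_ssubset_coe.mpr h1) (Set.toFinite _)
  rw [hcard 1 le_rfl (by omega), ha, Nat.pow_lt_pow_iff_right hp.one_lt] at h2
  have h3 : Nat.card H < Nat.card Q :=
    lt_of_le_of_ne (card_le_card_group _) fun e => hH' (eq_top_of_card_eq _ e)
  rw [hord, hb, Nat.pow_lt_pow_iff_right hp.one_lt] at h3
  have h4 := Subgroup.card_le_of_le hMH
  rw [ha, hb, Nat.pow_le_pow_iff_right hp.one_lt] at h4
  exact (eq_of_le_of_card_ge hMH (by rw [ha, hb, show b = a by omega])).symm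

theorem index_twoStep_le {i : ℕ} (hi : 1 ≤ i) (hi' : i + 1 < m) :
    ∃ g ∈ twoStep Q i, g ∉ lcs Q 1 := by
  have hp := (Fact.out : p.Prime)
  obtain ⟨y, hy, hy'⟩ := MaxClassP.lcs_succ_lt hcard hi (by omega : i < m)
  by_contra hcon
  push Not at hcon
  have hker : (leftCom hy).ker ≤ lcs Q 1 := fun g hg =>
    hcon g (mem_twoStep_of hcard hi (by omega) hy hy' (q_eq_one.1 hg))
  have h1 : (leftCom hy).range ≤ (lcs Q (i + 1)).map (q (i + 2)) := by
    rintro _ ⟨g, rfl⟩
    exact mem_map_of_mem _ (comm_mem_lcs (mem_lcs_zero g) hy (by omega))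
  have h2 : Nat.card ((lcs Q (i + 1)).map (q (i + 2))) ≤ p := by
    rw [PSolv.card_map_mk_eq_relIndex]
    have h := relIndex_mul_relIndex ⊥ (lcs Q (i + 2)) (lcs Q (i + 1)) bot_le
      (Subgroup.lowerCentralSeries_antitone _ (by omega))
    rw [relIndex_bot_left, relIndex_bot_left, hcard (i + 1) (by omega) (by omega),
      hcard (i + 2) (by omega) (by omega), show m - (i + 1) = m - (i + 2) + 1 by omega,
      pow_succ] at h
    exact (Nat.eq_of_mul_eq_mul_left (pow_pos hp.pos _) h).le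
  have h3 : (lcs Q 1).index ≤ (leftCom hy).ker.index :=
    Nat.le_of_dvd (Nat.pos_of_ne_zero index_ne_zero_of_finite) (index_dvd_of_le hker)
  rw [index_ker] at h3
  have h4 := h3.trans ((Subgroup.card_le_of_le h1).trans h2)
  rw [MaxClassP.index_lcs_one (isPGroup' hord) (by omega) hord hcard] at h4
  nlinarith [hp.two_le]

theorem chain_not_mem (hm : 2 ≤ m) {s t : Q} {g : ℕ → Q} (hg : ∀ j, g (j + 1) = ⁅s, g j⁆)
    (ht : t = g 0) {T : Subgroup Q} (hT : lcs Q 1 ≤ T) (hT' : T ≠ ⊤) (htT : t ∈ T)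
    (ht' : t ∉ lcs Q 1) (hsT : s ∉ T) {b : ℕ} (hb : b < m)
    (hs : ∀ i, 1 ≤ i → i < b → s ∉ twoStep Q i) :
    ∀ j, j ≤ b → g j ∉ lcs Q (j + 1) := by
  subst ht
  have hQ := isPGroup' hord
  intro j
  induction j with
  | zero => exact fun _ => ht'
  | succ j ih =>
    intro hj
    rw [hg]
    rcases Nat.eq_zero_or_pos j with rfl | hj1
    · intro h
      set H : Subgroup Q := closure {s, g 0}
      have hH : H = ⊤ := by
        refine MaxClassP.top_of_sup_lcs_one hQ ?_
        by_contra hne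
        have hgT : g 0 ∈ H ⊔ lcs Q 1 := mem_sup_left (subset_closure (by simp))
        have := eq_of_mem hord hcard hm le_sup_right hT hne hT' hgT htT ht'
        exact hsT (this ▸ mem_sup_left (subset_closure (by simp)))
      have hab : ∀ x y : Q, Commute (q 2 x) (q 2 y) := by
        have hc : Commute (q 2 s) (q 2 (g 0)) := by
          rw [commute_iff_eq, ← commutatorElement_eq_one_iff_mul_comm, ← map_commutatorElement]
          exact q_eq_one.2 h
        haveI : IsMulCommutative (closure ({q 2 s, q 2 (g 0)} : Set _)) :=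
          Subgroup.isMulCommutative_closure (by
            rintro u (rfl | rfl) v (rfl | rfl) <;> first | rfl | exact hc.eq | exact hc.eq.symm)
        intro x y
        have hmem : ∀ w : Q, q 2 w ∈ closure ({q 2 s, q 2 (g 0)} : Set _) := fun w => by
          have := mem_map_of_mem (q 2) (hH.ge (mem_top w))
          rwa [MonoidHom.map_closure, Set.image_pair] at this
        exact congrArg Subtype.val
          (isMulCommutative_iff.mp ‹_› ⟨_, hmem x⟩ ⟨_, hmem y⟩)
      have h2 : lcs Q 1 ≤ lcs Q 2 := by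
        rw [MaxClassP.lcs_succ, commutator_le]
        intro x _ y _
        rw [← q_eq_one, map_commutatorElement, commutatorElement_eq_one_iff_mul_comm]
        exact hab x y
      obtain ⟨a, ha, ha'⟩ := MaxClassP.lcs_succ_lt hcard le_rfl (by omega : 1 < m)
      exact ha' (h2 ha)
    · exact comm_not_mem hcard hj1 (by omega) (chain_mem hg j) (ih (by omega))
        (hs j hj1 (by omega))

/-- The two-step centralisers below the last one coincide. -/
theorem twoStep_eq (hm : 4 ≤ m) : ∀ k, 1 ≤ k → k + 3 ≤ m → twoStep Q k = twoStep Q 1 := by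
  have hp := (Fact.out : p.Prime)
  have hQ := isPGroup' hord
  have hn : Group.nilpotencyClass Q = m := by
    haveI := hQ.isNilpotent
    refine le_antisymm (Subgroup.lowerCentralSeries_eq_bot_iff_nilpotencyClass_le.1
      (MaxClassP.lcs_eq_bot hcard le_rfl (by omega))) ?_
    by_contra h
    have h1 : lcs Q (m - 1) = ⊥ :=
      Subgroup.lowerCentralSeries_eq_bot_iff_nilpotencyClass_le.2 (by omega)
    have h2 := hcard (m - 1) (by omega) (by omega)
    rw [h1, card_bot, show m - (m - 1) = 1 by omega, pow_one] at h2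
    exact hp.ne_one h2.symm
  obtain ⟨x, -, -, hx⟩ := MaxClassP.exists_gamma (Q := Q) (n := m + 1) (by omega) hord
    (by omega) (H := ⊥) (by
      intro e
      have := congrArg (fun H : Subgroup Q => Nat.card H) e
      simp only [card_bot, card_top, hord] at this
      exact absurd this.symm (Nat.one_lt_pow (by omega) hp.one_lt).ne')
  rw [Nat.add_sub_cancel] at hx
  obtain ⟨t, ht, ht'⟩ := index_twoStep_le hord hcard le_rfl (by omega : 1 + 1 < m)
  have hsmall := MaxClassP.small_of_notMem hQ (by omega) hord hcard (by omega) hx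
  have hne : ∀ i, 1 ≤ i → i + 2 ≤ m → twoStep Q i ≠ ⊤ := fun i _ hi =>
    MaxClassP.twoStep_ne_top hcard (by omega)
  intro k
  induction k using Nat.strong_induction_on with
  | _ k ih =>
  intro hk hkm
  refine eq_of_mem hord hcard (by omega) (lcs_one_le_twoStep k) (lcs_one_le_twoStep 1)
    (hne k hk (by omega)) (hne 1 le_rfl (by omega)) (g := t) ?_ ht ht'
  by_contra htk
  by_cases hbig : p ≤ k
  · have h1 := MaxClassP.twoStep_le_add hsmall hcard (i := k - (p - 1))
      (by have := hp.two_le; omega) (by have := hp.two_le; omega)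
    rw [Nat.sub_add_cancel (by omega : p - 1 ≤ k)] at h1
    refine htk (h1 ?_)
    rwa [ih (k - (p - 1)) (by have := hp.two_le; omega) (by have := hp.two_le; omega) (by omega)]
  let g : ℕ → Q := fun n => Nat.rec t (fun _ y => ⁅x, y⁆) n
  have hg : ∀ j, g (j + 1) = ⁅x, g j⁆ := fun _ => rfl
  have hk2 : 2 ≤ k := by
    by_contra h
    rw [show k = 1 by omega] at htk
    exact htk ht
  have hnm := chain_not_mem hord hcard (by omega) hg rfl (lcs_one_le_twoStep 1)
    (hne 1 le_rfl (by omega)) ht ht' (hx 1 le_rfl (by omega)) (b := k + 1) (by omega)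
    (fun i hi hik => hx i hi (by omega))
  have hzero : ∀ i < k, ⁅g i, g 0⁆ ∈ lcs Q (i + 2) := by
    intro i hi
    rcases Nat.eq_zero_or_pos i with rfl | hi1
    · rw [commutatorElement_self]; exact one_mem _
    · rw [← commutatorElement_inv]
      exact inv_mem (mem_twoStep'.1 (show g 0 ∈ twoStep Q i by
        rw [ih i hi hi1 (by omega)]; exact ht) _ (chain_mem hg i))
  have hX : ⁅g k, g 0⁆ ∉ lcs Q (k + 2) := fun h => by
    refine comm_not_mem hcard hk (by omega) (chain_mem hg k) (hnm k (by omega)) htk ?_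
    rw [← commutatorElement_inv]
    exact inv_mem h
  have hXm : ⁅g k, g 0⁆ ∈ lcs Q (k + 1) :=
    comm_mem_lcs (chain_mem hg k) (mem_lcs_zero _) (by omega)
  obtain ⟨h, hh⟩ := odd_first hg hzero hX
  obtain ⟨hd, hX0⟩ := second_value hg hzero (h := h + 1) (by omega) hk2
  have hd0 : q (k + 3) ⁅g (k + 1), g 0⁆ = 1 := by
    refine q_eq_one.2 ?_
    rw [← commutatorElement_inv]
    exact inv_mem (mem_twoStep'.1 (mem_twoStep_of hcard (by omega) (by omega) hXm hX hX0) _
      (chain_mem hg _))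
  rw [hd0] at hd
  have hcop : Nat.Coprime (h + 1) p := by
    refine (hp.coprime_iff_not_dvd.2 fun hdvd => ?_).symm
    have := Nat.le_of_dvd (Nat.succ_pos h) hdvd
    omega
  have hc : q (k + 3) ⁅x, ⁅g k, g 0⁆⁆ = 1 := by
    obtain ⟨a, ha⟩ := (hQ.to_quotient (lcs Q (k + 3))) (q (k + 3) ⁅x, ⁅g k, g 0⁆⁆)
    rw [← orderOf_eq_one_iff]
    exact Nat.eq_one_of_dvd_coprimes (hcop.pow_right a) (orderOf_dvd_of_pow_eq_one hd.symm)
      (orderOf_dvd_of_pow_eq_one ha)
  exact hx (k + 1) (by omega) (by omega)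
    (mem_twoStep_of hcard (by omega) (by omega) hXm hX (q_eq_one.1 hc))

/-- If the last two-step centraliser differs from the first one, the class is odd. -/
theorem odd_of_exceptional (hm : 4 ≤ m) (hne : twoStep Q (m - 2) ≠ twoStep Q 1) : Odd m := by
  obtain ⟨t, ht, ht'⟩ := index_twoStep_le hord hcard le_rfl (by omega : 1 + 1 < m)
  obtain ⟨s, hs, hs'⟩ := index_twoStep_le hord hcard (i := m - 2) (by omega) (by omega)
  have hT' : twoStep Q 1 ≠ ⊤ := MaxClassP.twoStep_ne_top hcard (by omega)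
  have hC' : twoStep Q (m - 2) ≠ ⊤ := MaxClassP.twoStep_ne_top hcard (by omega)
  have hsT : s ∉ twoStep Q 1 := fun h =>
    hne (eq_of_mem hord hcard (by omega) (lcs_one_le_twoStep _) (lcs_one_le_twoStep 1) hC' hT'
      hs h hs')
  have htC : t ∉ twoStep Q (m - 2) := fun h =>
    hne (eq_of_mem hord hcard (by omega) (lcs_one_le_twoStep _) (lcs_one_le_twoStep 1) hC' hT'
      h ht ht')
  let g : ℕ → Q := fun n => Nat.rec t (fun _ y => ⁅s, y⁆) n
  have hg : ∀ j, g (j + 1) = ⁅s, g j⁆ := fun _ => rfl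
  have hnm := chain_not_mem hord hcard (by omega) hg rfl (lcs_one_le_twoStep 1) hT' ht ht' hsT
    (b := m - 2) (by omega) (fun i hi hik => by
      rw [twoStep_eq hord hcard hm i hi (by omega)]; exact hsT)
  have hzero : ∀ i < m - 2, ⁅g i, g 0⁆ ∈ lcs Q (i + 2) := by
    intro i hi
    rcases Nat.eq_zero_or_pos i with rfl | hi1
    · rw [commutatorElement_self]; exact one_mem _
    · rw [← commutatorElement_inv]
      exact inv_mem (mem_twoStep'.1 (show g 0 ∈ twoStep Q i by
        rw [twoStep_eq hord hcard hm i hi1 (by omega)]; exact ht) _ (chain_mem hg i))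
  obtain ⟨h, hh⟩ := odd_first hg hzero (k := m - 2) fun h => by
    refine comm_not_mem hcard (by omega) (by omega) (chain_mem hg _) (hnm _ le_rfl) htC ?_
    rw [← commutatorElement_inv]
    exact inv_mem h
  exact ⟨h + 1, by omega⟩

end

end Cfsg.Agent.MCE
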