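import Mathlib
import Cfsg.Agent.MCE.TwoStep

/-!
Self-centralising elementary abelian subgroups of order `p ^ 3` in groups of maximal class.
-/

set_option autoImplicit false

open Subgroup
open scoped commutatorElement

namespace Cfsg.Agent.MCE

open MaxClassP (lcs twoStep)

/-- The standing data: a group of order `p ^ (m + 1)` of maximal class. -/
structure MaxData (p m : ℕ) (Q : Type*) [Group Q] : Prop where
  hm : 4 ≤ m
  ord : Nat.card Q = p ^ (m + 1)
  card : ∀ j, 1 ≤ j → j ≤ m → Nat.card (lcs Q j) = p ^ (m - j)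

/-- A self-centralising abelian subgroup of order `p ^ 3`. -/
structure Cube (p : ℕ) {Q : Type*} [Group Q] (E : Subgroup Q) : Prop where
  comm : ∀ x ∈ E, ∀ y ∈ E, x * y = y * x
  card : Nat.card E = p ^ 3
  self : ∀ x, (∀ y ∈ E, y * x = x * y) → x ∈ E

variable {Q : Type*} [Group Q] [Finite Q] {p : ℕ} [Fact p.Prime] {m : ℕ}

namespace MaxData

variable (D : MaxData p m Q)
include D

theorem bot : lcs Q m = ⊥ := MaxClassP.lcs_eq_bot D.card le_rfl (by have := D.hm; omega)

theorem commute_of_sum {x y : Q} {a b : ℕ} (hx : x ∈ lcs Q a) (hy : y ∈ lcs Q b)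
    (h : m ≤ a + b + 1) : x * y = y * x := by
  have h1 := comm_mem_lcs hx hy h
  rw [D.bot, mem_bot, commutatorElement_eq_one_iff_mul_comm] at h1
  exact h1

theorem commute_second {x y : Q} (hx : x ∈ twoStep Q (m - 2)) (hy : y ∈ lcs Q (m - 2)) :
    x * y = y * x := by
  have h1 := mem_twoStep'.1 hx y hy
  rw [show m - 2 + 2 = m by have := D.hm; omega, D.bot, mem_bot,
    commutatorElement_eq_one_iff_mul_comm] at h1
  exact h1

theorem central_last {z : Q} (hz : z ∈ lcs Q (m - 1)) (x : Q) : z * x = x * z :=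
  D.commute_of_sum hz (mem_lcs_zero x) (by have := D.hm; omega)

theorem third_comm {x y : Q} (hx : x ∈ lcs Q (m - 3)) (hy : y ∈ lcs Q (m - 3)) :
    x * y = y * x := by
  have hm := D.hm
  by_cases h : x ∈ lcs Q (m - 2)
  · exact D.commute_of_sum h hy (by omega)
  have hle : lcs Q (m - 3) ≤ centralizer ({x} : Set Q) := by
    refine MaxClassP.lcs_le_of_mem D.card (by omega) (by omega) (fun w hw => ?_) hx
      (by rwa [show m - 3 + 1 = m - 2 by omega]) (mem_centralizer_singleton_iff.2 rfl)
    rw [show m - 3 + 1 = m - 2 by omega] at hw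
    exact mem_centralizer_singleton_iff.2 (D.commute_of_sum hw hx (by omega))
  exact (mem_centralizer_singleton_iff.1 (hle hy)).symm

/-- Elements with a large centraliser lie in one of two two-step centralisers. -/
theorem big_mem {x : Q} (h : p ^ 3 ≤ Nat.card (centralizer ({x} : Set Q))) :
    x ∈ twoStep Q (m - 2) ∨ x ∈ twoStep Q 1 := by
  have hm := D.hm
  by_contra hx
  rw [not_or] at hx
  have hs := MaxClassP.small_of_notMem (isPGroup' D.ord) (by omega) D.ord D.card (by omega)
    (x := x) (fun i hi him => by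
      rcases (by omega : i + 2 = m ∨ i + 3 ≤ m) with h | h
      · rw [show i = m - 2 by omega]; exact hx.1
      · rw [twoStep_eq D.ord D.card hm i hi h]; exact hx.2)
  have := h.trans hs.hC
  rw [Nat.pow_le_pow_iff_right (Fact.out : p.Prime).one_lt] at this
  omega

theorem card_twoStep {i : ℕ} (hi : 1 ≤ i) (hi' : i + 1 < m) :
    Nat.card (twoStep Q i) = p ^ m := by
  have hp := (Fact.out : p.Prime)
  obtain ⟨g, hg, hg'⟩ := index_twoStep_le D.ord D.card hi hi'
  obtain ⟨a, ha⟩ := IsPGroup.iff_card.1 ((isPGroup' D.ord).to_subgroup (twoStep Q i))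
  have h1 : lcs Q 1 < twoStep Q i := lt_of_le_of_ne (lcs_one_le_twoStep i) fun e => hg' (e ▸ hg)
  have h2 : Nat.card (lcs Q 1) < Nat.card (twoStep Q i) :=
    Set.ncard_lt_ncard (SetLike.coe_ssubset_coe.mpr h1) (Set.toFinite _)
  rw [D.card 1 le_rfl (by omega), ha, Nat.pow_lt_pow_iff_right hp.one_lt] at h2
  have h3 : Nat.card (twoStep Q i) < Nat.card Q :=
    lt_of_le_of_ne (card_le_card_group _) fun e =>
      MaxClassP.twoStep_ne_top D.card (by omega) (eq_top_of_card_eq _ e)
  rw [D.ord, ha, Nat.pow_lt_pow_iff_right hp.one_lt] at h3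
  rw [ha, show a = m by omega]

/-- Elements of `S` normalise subgroups between `L (j + 1)` and `L j`. -/
theorem mem_normalizer_of_comm {E : Subgroup Q} {g : Q} (h : ∀ e ∈ E, ⁅g, e⁆ ∈ E) :
    g ∈ normalizer (E : Set Q) := by
  refine mem_normalizer_fintype (S := (E : Set Q)) fun e he => ?_
  have := mul_mem (h e he) he
  simpa [commutatorElement_def, mul_assoc] using this

end MaxData

variable {E : Subgroup Q}

omit [Finite Q] [Fact p.Prime] in
theorem comm_mem_of_normalizer {x e : Q} (hx : x ∈ normalizer (E : Set Q)) (he : e ∈ E) :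
    ⁅x, e⁆ ∈ E := by
  rw [commutatorElement_def]
  exact mul_mem ((mem_normalizer_iff.1 hx e).1 he) (inv_mem he)

omit [Finite Q] [Fact p.Prime] in
theorem center_le_cube (hE : Cube p E) {z : Q} (hz : ∀ x, z * x = x * z) : z ∈ E :=
  hE.self z fun y _ => (hz y).symm

theorem card_pow_le {H : Subgroup Q} (D : MaxData p m Q) (hE : Cube p E) (h : H < E) :
    Nat.card H ≤ p ^ 2 := by
  obtain ⟨a, ha⟩ := IsPGroup.iff_card.1 ((isPGroup' D.ord).to_subgroup H)
  have h2 : Nat.card H < Nat.card E :=
    Set.ncard_lt_ncard (SetLike.coe_ssubset_coe.mpr h) (Set.toFinite _)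
  rw [ha, hE.card, Nat.pow_lt_pow_iff_right (Fact.out : p.Prime).one_lt] at h2
  rw [ha]
  exact Nat.pow_le_pow_right (Fact.out : p.Prime).pos (by omega)

/-- A transvection on `E` induced by its normaliser, with the hyperplane it centralises. -/
theorem exists_first (D : MaxData p m Q) (hE : Cube p E) :
    ∃ (H : Subgroup Q) (g : Q), H ≤ E ∧ Nat.card H = p ^ 2 ∧ g ∈ normalizer (E : Set Q) ∧
      g ∉ E ∧ (∀ h ∈ H, g * h = h * g) ∧
      ∀ x ∈ normalizer (E : Set Q), ∀ e ∈ E, ⁅x, e⁆ ∈ H := by
  have hp := (Fact.out : p.Prime)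
  have hm := D.hm
  have h2 : Nat.card (lcs Q (m - 2)) = p ^ 2 := by
    rw [D.card _ (by omega) (by omega), show m - (m - 2) = 2 by omega]
  have h3 : Nat.card (lcs Q (m - 3)) = p ^ 3 := by
    rw [D.card _ (by omega) (by omega), show m - (m - 3) = 3 by omega]
  by_cases hA : E ≤ twoStep Q (m - 2)
  · have hL : lcs Q (m - 2) ≤ E := fun w hw =>
      hE.self w fun y hy => D.commute_second (hA hy) hw
    have hcom : ∀ x ∈ normalizer (E : Set Q), ∀ e ∈ E, ⁅x, e⁆ ∈ lcs Q (m - 2) := by
      classical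
      have hex : ∃ j, ¬ E ≤ lcs Q j := ⟨m - 2, fun h => by
        have := Subgroup.card_le_of_le h
        rw [hE.card, h2, Nat.pow_le_pow_iff_right hp.one_lt] at this
        omega⟩
      obtain ⟨j, hj⟩ : ∃ j, Nat.find hex = j + 1 := ⟨Nat.find hex - 1, by
        have : Nat.find hex ≠ 0 := fun h0 =>
          Nat.find_spec hex (h0 ▸ fun x _ => mem_lcs_zero x)
        omega⟩
      have hj1 : E ≤ lcs Q j := not_not.1 (Nat.find_min hex (by omega))
      have hj2 : ¬ E ≤ lcs Q (j + 1) := hj ▸ Nat.find_spec hex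
      have hjm : j + 1 ≤ m - 2 := hj ▸ Nat.find_le fun h => by
        have := Subgroup.card_le_of_le h
        rw [hE.card, h2, Nat.pow_le_pow_iff_right hp.one_lt] at this
        omega
      have heq : lcs Q (m - 2) = E ⊓ lcs Q (j + 1) := by
        refine eq_of_le_of_card_ge
          (le_inf hL (Subgroup.lowerCentralSeries_antitone _ hjm)) ?_
        rw [h2]
        exact card_pow_le D hE (lt_of_le_of_ne inf_le_left fun e => hj2 (inf_eq_left.1 e))
      intro x hx e he
      rw [heq]
      exact ⟨comm_mem_of_normalizer hx he, comm_mem_lcs (mem_lcs_zero x) (hj1 he) (by omega)⟩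
    obtain ⟨g, hgN, hgE, hgC⟩ : ∃ g ∈ normalizer (E : Set Q), g ∉ E ∧
        g ∈ twoStep Q (m - 2) := by
      by_cases h : lcs Q (m - 3) ≤ E
      · have hEL : E = lcs Q (m - 3) := (eq_of_le_of_card_ge h (by rw [hE.card, h3])).symm
        obtain ⟨g, hg, hgE⟩ := SetLike.exists_of_lt (lt_of_le_of_ne hA fun e => by
          have h' := hE.card
          rw [e, D.card_twoStep (by omega) (by omega)] at h'
          have := Nat.pow_right_injective hp.two_le h'
          omega)
        refine ⟨g, MaxData.mem_normalizer_of_comm D fun e he => ?_, hgE, hg⟩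
        rw [hEL] at he ⊢
        exact comm_mem_lcs (mem_lcs_zero g) he (by omega)
      · obtain ⟨g, hg, hgE⟩ := SetLike.not_le_iff_exists.1 h
        refine ⟨g, MaxData.mem_normalizer_of_comm D fun e he => hL ?_, hgE,
          lcs_one_le_twoStep _ (Subgroup.lowerCentralSeries_antitone _ (by omega) hg)⟩
        exact comm_mem_lcs hg (mem_lcs_zero e) (by omega)
    exact ⟨lcs Q (m - 2), g, hL, h2, hgN, hgE, fun h hh => D.commute_second hgC hh, hcom⟩
  · obtain ⟨w, hw, hw'⟩ := MaxClassP.lcs_succ_lt D.card (j := m - 2) (by omega) (by omega)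
    rw [show m - 2 + 1 = m - 1 by omega] at hw'
    obtain ⟨e, he, he'⟩ := SetLike.not_le_iff_exists.1 hA
    refine ⟨E ⊓ twoStep Q (m - 2), w, inf_le_left, ?_, ?_, ?_, ?_, ?_⟩
    · refine le_antisymm (card_pow_le D hE (lt_of_le_of_ne inf_le_left fun e' =>
        hA (inf_eq_left.1 e'))) ?_
      have h1 := relIndex_mul_relIndex ⊥ (E ⊓ twoStep Q (m - 2)) E bot_le inf_le_left
      rw [relIndex_bot_left, relIndex_bot_left, hE.card, inf_relIndex_left] at h1
      have h4 : (twoStep Q (m - 2)).relIndex E ≤ p := by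
        refine le_trans (relIndex_le_of_le_right le_top ?_) (le_of_eq ?_)
        · rw [relIndex_top_right]; exact index_ne_zero_of_finite
        · rw [relIndex_top_right]
          have h5 := (twoStep Q (m - 2)).card_mul_index
          rw [D.card_twoStep (by omega) (by omega), D.ord, pow_succ] at h5
          exact Nat.eq_of_mul_eq_mul_left (pow_pos hp.pos m) h5
      refine Nat.le_of_mul_le_mul_right ?_ hp.pos
      rw [← pow_succ, show 2 + 1 = 3 from rfl, ← h1]
      exact Nat.mul_le_mul_left _ h4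
    · refine MaxData.mem_normalizer_of_comm D fun e he => center_le_cube hE fun x => ?_
      exact D.central_last (comm_mem_lcs hw (mem_lcs_zero e) (by omega)) x
    · intro hwE
      exact comm_not_mem D.card (by omega) (by omega) hw (by rwa [show m - 2 + 1 = m - 1 by omega])
        he' (by rw [commutatorElement_eq_one_iff_mul_comm.2 (hE.comm e he w hwE)]; exact one_mem _)
    · exact fun h hh => (D.commute_second hh.2 hw).symm
    · exact fun x hx e he => ⟨comm_mem_of_normalizer hx he,
        lcs_one_le_twoStep _ (comm_mem_lcs (mem_lcs_zero x) (mem_lcs_zero e) (by omega))⟩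

/-- With a small normaliser, the normaliser is `E L (m - 3)`. -/
theorem exists_second (D : MaxData p m Q) (hE : Cube p E)
    (hN : Nat.card (normalizer (E : Set Q)) = p ^ 4) :
    Nat.card (E ⊓ lcs Q (m - 3) : Subgroup Q) = p ^ 2 ∧ lcs Q (m - 3) ≤ normalizer (E : Set Q) ∧
      ∃ g ∈ lcs Q (m - 3), g ∉ E ∧ (∀ x : Q, ⁅x, g⁆ ∈ E ⊓ lcs Q (m - 3)) ∧
        (∀ e ∈ E, ⁅g, e⁆ ∈ lcs Q (m - 2)) ∧
        ((∃ e ∈ E, ⁅g, e⁆ ∉ lcs Q (m - 1)) → twoStep Q (m - 2) ≠ twoStep Q 1) := by
  have hp := (Fact.out : p.Prime)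
  have hm := D.hm
  have h2 : Nat.card (lcs Q (m - 2)) = p ^ 2 := by
    rw [D.card _ (by omega) (by omega), show m - (m - 2) = 2 by omega]
  have h3 : Nat.card (lcs Q (m - 3)) = p ^ 3 := by
    rw [D.card _ (by omega) (by omega), show m - (m - 3) = 3 by omega]
  have hZ : lcs Q (m - 1) ≤ E := fun z hz => center_le_cube hE (D.central_last hz)
  have h31 : twoStep Q (m - 3) = twoStep Q 1 :=
    twoStep_eq D.ord D.card hm (m - 3) (by omega) (by omega)
  have hT : ∀ e, e ∈ twoStep Q 1 → ∀ y ∈ lcs Q (m - 3), ⁅y, e⁆ ∈ lcs Q (m - 1) := by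
    intro e he y hy
    rw [← commutatorElement_inv]
    refine inv_mem ?_
    have := mem_twoStep'.1 (h31 ▸ he) y hy
    rwa [show m - 3 + 2 = m - 1 by omega] at this
  have hEcase : E ≤ twoStep Q (m - 2) ∨ E ≤ twoStep Q 1 := by
    by_contra h
    rw [not_or] at h
    obtain ⟨a, ha, ha'⟩ := SetLike.not_le_iff_exists.1 h.1
    obtain ⟨b, hb, hb'⟩ := SetLike.not_le_iff_exists.1 h.2
    have hbig : ∀ x ∈ E, x ∈ twoStep Q (m - 2) ∨ x ∈ twoStep Q 1 := fun x hx => by
      refine D.big_mem ?_
      rw [← hE.card]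
      exact Subgroup.card_le_of_le fun y hy => mem_centralizer_singleton_iff.2 (hE.comm y hy x hx)
    have ha1 := (hbig a ha).resolve_left ha'
    have hb1 := (hbig b hb).resolve_right hb'
    rcases hbig (a * b) (mul_mem ha hb) with h' | h'
    · exact ha' (by simpa using mul_mem h' (inv_mem hb1))
    · exact hb' (by simpa using mul_mem (inv_mem ha1) h')
  have hA2 : E ≤ twoStep Q (m - 2) → lcs Q (m - 2) ≤ E := fun h w hw =>
    hE.self w fun y hy => D.commute_second (h hy) hw
  have hLN : lcs Q (m - 3) ≤ normalizer (E : Set Q) := by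
    intro y hy
    refine MaxData.mem_normalizer_of_comm D fun e he => ?_
    rcases hEcase with h | h
    · exact hA2 h (comm_mem_lcs hy (mem_lcs_zero e) (by omega))
    · exact hZ (hT e (h he) y hy)
  have hcard2 : Nat.card (E ⊓ lcs Q (m - 3) : Subgroup Q) = p ^ 2 := by
    refine le_antisymm (card_pow_le D hE (lt_of_le_of_ne inf_le_left fun e => ?_)) ?_
    · have hEL : E = lcs Q (m - 3) := eq_of_le_of_card_ge (inf_eq_left.1 e) (by rw [hE.card, h3])
      have htop : normalizer (E : Set Q) = ⊤ := top_unique fun x _ =>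
        MaxData.mem_normalizer_of_comm D fun e' he' => by
          rw [hEL] at he' ⊢
          exact comm_mem_lcs (mem_lcs_zero x) he' (by omega)
      rw [htop, card_top, D.ord] at hN
      have := Nat.pow_right_injective hp.two_le hN
      omega
    · have h1 := relIndex_mul_relIndex ⊥ (E ⊓ lcs Q (m - 3)) (lcs Q (m - 3)) bot_le inf_le_right
      rw [relIndex_bot_left, relIndex_bot_left, h3, inf_relIndex_right] at h1
      have h4 : E.relIndex (lcs Q (m - 3)) ≤ p := by
        refine le_trans (relIndex_le_of_le_right hLN ?_) (le_of_eq ?_)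
        · rw [relIndex]; exact index_ne_zero_of_finite
        · have h5 := relIndex_mul_relIndex ⊥ E (normalizer (E : Set Q)) bot_le le_normalizer
          rw [relIndex_bot_left, relIndex_bot_left, hE.card, hN] at h5
          exact Nat.eq_of_mul_eq_mul_left (pow_pos hp.pos 3) (h5.trans (pow_succ p 3))
      refine Nat.le_of_mul_le_mul_right ?_ hp.pos
      rw [← pow_succ, show 2 + 1 = 3 from rfl, ← h1]
      exact Nat.mul_le_mul_left _ h4
  refine ⟨hcard2, hLN, ?_⟩
  by_cases hA : E ≤ twoStep Q (m - 2)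
  · obtain ⟨g, hg, hgE⟩ : ∃ g ∈ lcs Q (m - 3), g ∉ E := SetLike.not_le_iff_exists.1 fun h => by
      rw [inf_eq_right.2 h, h3] at hcard2
      have := Nat.pow_right_injective hp.two_le hcard2
      omega
    refine ⟨g, hg, hgE, fun x => ?_, fun e he => comm_mem_lcs hg (mem_lcs_zero e) (by omega), ?_⟩
    · have h := comm_mem_lcs (N := m - 2) (mem_lcs_zero x) hg (by omega)
      exact ⟨hA2 hA h, Subgroup.lowerCentralSeries_antitone _ (by omega) h⟩
    · rintro ⟨e, he, hne⟩ heq
      exact hne (hT e (heq ▸ hA he) g hg)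
  · obtain ⟨w, hw, hw'⟩ := MaxClassP.lcs_succ_lt D.card (j := m - 2) (by omega) (by omega)
    rw [show m - 2 + 1 = m - 1 by omega] at hw'
    have hw3 := Subgroup.lowerCentralSeries_antitone (⊤ : Subgroup Q) (show m - 3 ≤ m - 2 by omega) hw
    refine ⟨w, hw3, fun hwE => ?_, fun x => ?_, fun e he => comm_mem_lcs hw (mem_lcs_zero e) (by omega),
      fun ⟨e, _, hne⟩ => absurd (comm_mem_lcs hw (mem_lcs_zero e) (by omega)) hne⟩
    · obtain ⟨e, he, he'⟩ := SetLike.not_le_iff_exists.1 hA
      exact comm_not_mem D.card (by omega) (by omega) hw (by rwa [show m - 2 + 1 = m - 1 by omega])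
        he' (by rw [commutatorElement_eq_one_iff_mul_comm.2 (hE.comm e he w hwE)]; exact one_mem _)
    · have h := comm_mem_lcs (N := m - 1) (mem_lcs_zero x) hw (by omega)
      exact ⟨hZ h, Subgroup.lowerCentralSeries_antitone _ (by omega) h⟩

end Cfsg.Agent.MCE
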