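import Mathlib

/-!
Automorphisms stabilising a short series form a `p`-group.
-/

set_option autoImplicit false

namespace Cfsg.Agent.MCE

variable {G : Type*} [Group G]

/-- The automorphisms acting trivially on `G / A`. -/
def modStab (A : Subgroup G) : Subgroup (MulAut G) where
  carrier := {a | ∀ y, y⁻¹ * a y ∈ A}
  one_mem' y := by simp
  mul_mem' {a b} ha hb y := by
    have := mul_mem (hb y) (ha (b y))
    simpa [mul_assoc] using this
  inv_mem' {a} ha y := by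
    have := inv_mem (ha (a⁻¹ y))
    simpa [mul_assoc] using this

theorem mem_modStab {A : Subgroup G} {a : MulAut G} : a ∈ modStab A ↔ ∀ y, y⁻¹ * a y ∈ A :=
  Iff.rfl

theorem mem_of_modStab {A : Subgroup G} {a : MulAut G} (ha : a ∈ modStab A) {y : G} (hy : y ∈ A) :
    a y ∈ A := by
  have := mul_mem hy (ha y)
  rwa [mul_inv_cancel_left] at this

/-- The automorphisms acting trivially on `G / A`, on `A / B` and on `B`. -/
def flagStab (A B : Subgroup G) : Subgroup (MulAut G) where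
  carrier := {a | a ∈ modStab A ∧ (∀ y ∈ A, y⁻¹ * a y ∈ B) ∧ ∀ y ∈ B, a y = y}
  one_mem' := ⟨one_mem _, fun y _ => by simp, fun y _ => rfl⟩
  mul_mem' {a b} ha hb := ⟨mul_mem ha.1 hb.1, fun y hy => by
      have := mul_mem (hb.2.1 y hy) (ha.2.1 (b y) (mem_of_modStab hb.1 hy))
      simpa [mul_assoc] using this, fun y hy => by
      rw [MulAut.mul_apply, hb.2.2 y hy, ha.2.2 y hy]⟩
  inv_mem' {a} ha := ⟨inv_mem ha.1, fun y hy => by
      have := inv_mem (ha.2.1 (a⁻¹ y) (mem_of_modStab (inv_mem ha.1) hy))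
      simpa [mul_assoc] using this, fun y hy => by
      conv_lhs => rw [← ha.2.2 y hy]
      exact a.symm_apply_apply y⟩

theorem mem_flagStab {A B : Subgroup G} {a : MulAut G} :
    a ∈ flagStab A B ↔ a ∈ modStab A ∧ (∀ y ∈ A, y⁻¹ * a y ∈ B) ∧ ∀ y ∈ B, a y = y :=
  Iff.rfl

theorem flagStab_pow {A B : Subgroup G} (p : ℕ) (hA : ∀ d ∈ A, d ^ p ∈ B) (hB : ∀ d ∈ B, d ^ p = 1)
    (hBA : B ≤ A) (hBn : B.Normal) {a : MulAut G} (ha : a ∈ flagStab A B) : a ^ (p ^ 2) = 1 := by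
  have hfix : ∀ {b : MulAut G} (y d : G), b y = y * d → b d = d → ∀ n : ℕ,
      (b ^ n) y = y * d ^ n := by
    intro b y d h1 h2 n
    induction n with
    | zero => simp
    | succ n ih =>
      rw [pow_succ', MulAut.mul_apply, ih, map_mul, map_pow, h1, h2, pow_succ', mul_assoc]
  have hpA : ∀ y ∈ A, (a ^ p) y = y := fun y hy => by
    have hd := ha.2.1 y hy
    rw [hfix y _ (mul_inv_cancel_left y (a y)).symm (ha.2.2 _ hd) p, hB _ hd, mul_one]
  have hpG : ∀ y, y⁻¹ * (a ^ p) y ∈ B := by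
    intro y
    set d := y⁻¹ * a y with hd
    have hdA : d ∈ A := ha.1 y
    have key : ∀ n : ℕ, (d ^ n)⁻¹ * (y⁻¹ * (a ^ n) y) ∈ B := by
      intro n
      induction n with
      | zero => simp
      | succ n ih =>
        set f := (d ^ n)⁻¹ * (y⁻¹ * (a ^ n) y) with hf
        have e1 : (a ^ n) y = y * d ^ n * f := by rw [hf]; group
        have e2 : (d ^ (n + 1))⁻¹ * (y⁻¹ * (a ^ (n + 1)) y) =
            ((d ^ n)⁻¹ * a (d ^ n)) * f := by
          rw [pow_succ' a, MulAut.mul_apply, e1, map_mul, map_mul, ha.2.2 f ih,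
            show a y = y * d by rw [hd]; group, pow_succ' d]
          group
        rw [e2]
        exact mul_mem (ha.2.1 _ (pow_mem hdA n)) ih
    have := mul_mem (hA d hdA) (key p)
    rwa [mul_inv_cancel_left] at this
  refine MulEquiv.ext fun y => ?_
  have hd := hpG y
  rw [pow_two, pow_mul, hfix y _ (mul_inv_cancel_left y ((a ^ p) y)).symm (hpA _ (hBA hd)) p,
    hB _ hd, mul_one]
  rfl

theorem conj_mem_flagStab {A B : Subgroup G} {a c : MulAut G}
    (ha : a ∈ flagStab A B) (hA : ∀ y, c y ∈ A ↔ y ∈ A) (hB : ∀ y, c y ∈ B ↔ y ∈ B) :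
    c * a * c⁻¹ ∈ flagStab A B := by
  have e : ∀ y, y⁻¹ * (c * a * c⁻¹) y = c ((c⁻¹ y)⁻¹ * a (c⁻¹ y)) := fun y => by
    simp [MulAut.mul_apply]
  have hA' : ∀ y ∈ A, c⁻¹ y ∈ A := fun y hy => (hA _).1 (by rwa [MulAut.apply_inv_self])
  have hB' : ∀ y ∈ B, c⁻¹ y ∈ B := fun y hy => (hB _).1 (by rwa [MulAut.apply_inv_self])
  refine ⟨fun y => ?_, fun y hy => ?_, fun y hy => ?_⟩
  · rw [e]; exact (hA _).2 (ha.1 _)
  · rw [e]; exact (hB _).2 (ha.2.1 _ (hA' y hy))
  · rw [MulAut.mul_apply, MulAut.mul_apply, ha.2.2 _ (hB' y hy), MulAut.apply_inv_self]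

end Cfsg.Agent.MCE
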