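import Mathlib
import Cfsg.Agent.FusionSys.Essential
import Cfsg.Agent.FusionQd.CentralLine

/-!
Transvections in an automorphism group with a strongly embedded subgroup: two conjugates in general
position generate an involution inverting both centres, and on a space of order `p ^ 3` the Sylow
subgroup fixing a flag has order `p`.
-/

set_option autoImplicit false

open Cfsg

namespace Cfsg.Agent.MCE

/-- `Y` contains the normalisers of the nontrivial subgroups of the Sylow subgroup `R`. -/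
structure Emb {X : Type*} [Group X] {p : ℕ} (R : Sylow p X) (Y : Subgroup X) : Prop where
  ne : Y ≠ ⊤
  norm : ∀ Q ≤ (R : Subgroup X), Q ≠ ⊥ → Subgroup.normalizer (Q : Set X) ≤ Y

namespace Emb

variable {X : Type*} [Group X] [Finite X] {p : ℕ} [Fact p.Prime] {R : Sylow p X} {Y : Subgroup X}

theorem exists_conj_mem (h : Emb R Y) (hR : (R : Subgroup X) ≤ Y) {x : X} (hx : x ∈ Y)
    (hxp : x ^ p = 1) : ∃ e ∈ Y, e * x * e⁻¹ ∈ (R : Subgroup X) := by
  have hp : IsPGroup p (Subgroup.zpowers (⟨x, hx⟩ : Y)) := by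
    rintro ⟨_, k, rfl⟩
    refine ⟨1, Subtype.ext (Subtype.ext ?_)⟩
    push_cast
    rw [pow_one, ← zpow_natCast, ← zpow_mul, mul_comm, zpow_mul, zpow_natCast, hxp, one_zpow]
  obtain ⟨T, hT⟩ := hp.exists_le_sylow
  obtain ⟨e, he⟩ := MulAction.exists_smul_eq Y T (R.subtype hR)
  refine ⟨e, e.2, ?_⟩
  have h1 : MulAut.conj e ⟨x, hx⟩ ∈ ((e • T : Sylow p Y) : Subgroup Y) := by
    rw [Sylow.coe_subgroup_smul]
    exact Subgroup.smul_mem_pointwise_smul _ (MulAut.conj e) _ (hT (Subgroup.mem_zpowers _))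
  rw [he] at h1
  exact h1

theorem mem_of_commute (h : Emb R Y) (hR : (R : Subgroup X) ≤ Y) {x y : X} (hx : x ∈ Y)
    (hxp : x ^ p = 1) (hx1 : x ≠ 1) (hc : Commute x y) : y ∈ Y := by
  obtain ⟨e, he, her⟩ := h.exists_conj_mem hR hx hxp
  have h1 : e * y * e⁻¹ ∈ Y := by
    refine h.norm (Subgroup.zpowers (e * x * e⁻¹)) (Subgroup.zpowers_le.2 her) ?_
      ((Subgroup.centralizer_le_normalizer _) ?_)
    · rw [Ne, Subgroup.zpowers_eq_bot, conj_eq_one_iff]; exact hx1
    · rw [Subgroup.mem_centralizer_iff]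
      intro z hz
      obtain ⟨k, rfl⟩ := Subgroup.mem_zpowers_iff.1 hz
      have h2 : Commute (e * x * e⁻¹) (e * y * e⁻¹) := hc.map (MulAut.conj e).toMonoidHom
      exact (h2.zpow_left k).eq
  simpa [mul_assoc] using Y.mul_mem (Y.mul_mem (Y.inv_mem he) h1) he

theorem mem_of_conj (h : Emb R Y) (hR : (R : Subgroup X) ≤ Y) {x g : X} (hx : x ∈ Y)
    (hxp : x ^ p = 1) (hx1 : x ≠ 1) (hg : g * x * g⁻¹ ∈ Y) : g ∈ Y := by
  obtain ⟨a, ha, har⟩ := h.exists_conj_mem hR hx hxp
  obtain ⟨b, hb, hbr⟩ := h.exists_conj_mem hR hg (by rw [conj_pow, hxp, mul_one, mul_inv_cancel])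
  have h1 : b * g * a⁻¹ ∈ Y := by
    refine FusionSys.spe_mem_of_conj R h.norm (U := Subgroup.zpowers (a * x * a⁻¹))
      (Subgroup.zpowers_le.2 har) (by rw [Ne, Subgroup.zpowers_eq_bot, conj_eq_one_iff]; exact hx1) ?_
    intro u hu
    obtain ⟨k, rfl⟩ := Subgroup.mem_zpowers_iff.1 hu
    rw [← conj_zpow]
    refine zpow_mem ?_ k
    show b * g * a⁻¹ * (a * x * a⁻¹) * (b * g * a⁻¹)⁻¹ ∈ (R : Subgroup X)
    rwa [show b * g * a⁻¹ * (a * x * a⁻¹) * (b * g * a⁻¹)⁻¹ = b * (g * x * g⁻¹) * b⁻¹ by group]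
  simpa [mul_assoc] using Y.mul_mem (Y.mul_mem (Y.inv_mem hb) h1) ha

end Emb

variable {V : Type*} [CommGroup V] [Finite V] {p : ℕ} [Fact p.Prime]

/-- `u` moves every element inside `I` and fixes `I`. -/
structure Tv (u : MulAut V) (I : Subgroup V) : Prop where
  disp : ∀ x, x⁻¹ * u x ∈ I
  fix : ∀ i ∈ I, u i = i

namespace Tv

variable {u u' : MulAut V} {I I' : Subgroup V}

theorem pow_apply (h : Tv u I) (x : V) : ∀ n : ℕ, (u ^ n) x = x * (x⁻¹ * u x) ^ n := by
  intro n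
  induction n with
  | zero => simp
  | succ n ih =>
    rw [pow_succ', MulAut.mul_apply, ih, map_mul, map_pow, h.fix _ (h.disp x), pow_succ',
      ← mul_assoc x, mul_inv_cancel_left]

theorem pow_prime (h : Tv u I) (hV : ∀ x : V, x ^ p = 1) : u ^ p = 1 :=
  MulEquiv.ext fun x => by rw [h.pow_apply, hV, mul_one]; rfl

theorem conj (h : Tv u I) (c : MulAut V) : Tv (c * u * c⁻¹) (I.map c.toMonoidHom) := by
  constructor
  · intro x
    refine ⟨(c⁻¹ x)⁻¹ * u (c⁻¹ x), h.disp _, ?_⟩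
    simp [MulAut.mul_apply]
  · rintro _ ⟨i, hi, rfl⟩
    simp [MulAut.mul_apply, h.fix i hi]

theorem commute (h : Tv u I) (h' : Tv u' I') (h1 : ∀ i ∈ I', u i = i) (h2 : ∀ i ∈ I, u' i = i) :
    Commute u u' := by
  refine MulEquiv.ext fun x => ?_
  show u (u' x) = u' (u x)
  rw [show u' x = x * (x⁻¹ * u' x) from (mul_inv_cancel_left x _).symm, map_mul,
    h1 _ (h'.disp x), show u x = x * (x⁻¹ * u x) from (mul_inv_cancel_left x _).symm, map_mul,
    h2 _ (h.disp x), show u' x = x * (x⁻¹ * u' x) from (mul_inv_cancel_left x _).symm]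
  simp [mul_comm, mul_left_comm]

theorem exists_link (h : Tv u I) (h' : Tv u' I') (h1 : ∀ i ∈ I', u i = i) :
    Commute (u' * u * u'⁻¹ * u⁻¹) u ∧ Commute (u' * u * u'⁻¹ * u⁻¹) u' ∧
      Tv (u' * u * u'⁻¹ * u⁻¹) I' := by
  have hinv : ∀ {a : MulAut V} {z : V}, a z = z → a⁻¹ z = z := fun {a z} e => by
    conv_lhs => rw [← e]
    exact a.symm_apply_apply z
  have h'i : ∀ y, y⁻¹ * u'⁻¹ y ∈ I' := fun y => by
    have := inv_mem (h'.disp (u'⁻¹ y))
    simpa [mul_comm] using this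
  have hfI' : ∀ i ∈ I', (u' * u * u'⁻¹ * u⁻¹) i = i := fun i hi => by
    simp only [MulAut.mul_apply, hinv (h1 i hi), hinv (h'.fix i hi), h1 i hi, h'.fix i hi]
  have hfI : ∀ i ∈ I, (u' * u * u'⁻¹ * u⁻¹) i = i := fun i hi => by
    simp only [MulAut.mul_apply, hinv (h.fix i hi)]
    rw [show u'⁻¹ i = i * (i⁻¹ * u'⁻¹ i) from (mul_inv_cancel_left i _).symm, map_mul u,
      h1 _ (h'i i), h.fix i hi, mul_inv_cancel_left]
    exact u'.apply_symm_apply i
  have ht : Tv (u' * u * u'⁻¹ * u⁻¹) I' := ⟨fun x => by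
    simp only [MulAut.mul_apply]
    set y := u⁻¹ x with hy
    rw [show u'⁻¹ y = y * (y⁻¹ * u'⁻¹ y) from (mul_inv_cancel_left y _).symm, map_mul u,
      h1 _ (h'i y), show u y = x from u.apply_symm_apply x, map_mul u', h'.fix _ (h'i y),
      ← mul_assoc]
    exact mul_mem (h'.disp x) (h'i y), hfI'⟩
  exact ⟨ht.commute h hfI h1, ht.commute h' hfI' h'.fix, ht⟩

end Tv

variable {A : Subgroup (MulAut V)} {R : Sylow p A} {Y : Subgroup A}

/-- Two transvections one of which fixes the centre of the other lie in the same conjugates. -/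
theorem mem_of_link (hY : Emb R Y) (hR : (R : Subgroup A) ≤ Y) (hV : ∀ x : V, x ^ p = 1) {c : A}
    {u u' : A} {I I' : Subgroup V} (h : Tv (u : MulAut V) I) (h' : Tv (u' : MulAut V) I')
    (hu : u ≠ 1) (hu' : u' ≠ 1)
    (h1 : (∀ i ∈ I', (u : MulAut V) i = i) ∨ (∀ i ∈ I, (u' : MulAut V) i = i))
    (hmem : c⁻¹ * u * c ∈ Y) : c⁻¹ * u' * c ∈ Y := by
  have hpow : ∀ {w : A} {J : Subgroup V}, Tv (w : MulAut V) J → w ^ p = 1 := fun {w J} hw =>
    Subtype.ext (by push_cast; exact hw.pow_prime hV)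
  have step : ∀ {x y : A}, x ^ p = 1 → x ≠ 1 → Commute x y → c⁻¹ * x * c ∈ Y →
      c⁻¹ * y * c ∈ Y := fun {x y} hxp hx1 hc hxY => by
    refine hY.mem_of_commute hR hxY ?_ ?_ ?_
    · have := conj_pow (a := c⁻¹) (b := x) (i := p)
      rw [inv_inv, hxp, mul_one, inv_mul_cancel] at this
      exact this
    · intro e
      refine hx1 ?_
      rw [← mul_left_inj c, one_mul, ← mul_right_inj c⁻¹, ← mul_assoc, e, inv_mul_cancel]
    · have := hc.map (MulAut.conj c⁻¹).toMonoidHom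
      simpa using this
  obtain ⟨v, hv, hv'⟩ : ∃ v : A, Commute v u ∧ Commute v u' ∧ (v = 1 → Commute u u') ∧
      v ^ p = 1 := by
    rcases h1 with h1 | h1
    · obtain ⟨a, b, d⟩ := h.exists_link h' h1
      refine ⟨u' * u * u'⁻¹ * u⁻¹, Subtype.ext a, Subtype.ext b, fun e => ?_, hpow d⟩
      rw [mul_inv_eq_one, mul_inv_eq_iff_eq_mul] at e
      exact e.symm
    · obtain ⟨a, b, d⟩ := h'.exists_link h h1
      refine ⟨u * u' * u⁻¹ * u'⁻¹, Subtype.ext b, Subtype.ext a, fun e => ?_, hpow d⟩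
      rw [mul_inv_eq_one, mul_inv_eq_iff_eq_mul] at e
      exact e
  obtain ⟨hv', hv1, hvp⟩ := hv'
  by_cases hv0 : v = 1
  · exact step (hpow h) hu (hv1 hv0) hmem
  · exact step hvp hv0 hv' (step (hpow h) hu hv.symm hmem)

/-- Some conjugate of a transvection is in general position with it. -/
theorem exists_generic (hY : Emb R Y) (hV : ∀ x : V, x ^ p = 1) {u : A} {I : Subgroup V}
    (h : Tv (u : MulAut V) I) (hu : u ≠ 1) (huR : u ∈ (R : Subgroup A)) :
    ∃ c : A, c ∉ Y ∧ (¬ ∀ i ∈ I, ((c * u * c⁻¹ : A) : MulAut V) i = i) ∧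
      ¬ ∀ i ∈ I.map (c : MulAut V).toMonoidHom, (u : MulAut V) i = i := by
  have hR : (R : Subgroup A) ≤ Y := Subgroup.le_normalizer.trans
    (hY.norm R le_rfl fun e => hu (by simpa [e] using huR))
  obtain ⟨c, -, hc⟩ := SetLike.exists_of_lt (lt_top_iff_ne_top.2 hY.ne)
  refine ⟨c, hc, ?_, ?_⟩ <;> intro hf <;> refine hc (hY.mem_of_conj hR (hR huR)
    (Subtype.ext (by push_cast; exact h.pow_prime hV)) hu ?_)
  all_goals
    have h' : Tv ((c * u * c⁻¹ : A) : MulAut V) (I.map (c : MulAut V).toMonoidHom) := by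
      push_cast
      exact h.conj _
    have := mem_of_link (c := 1) hY hR hV h h' hu (by rwa [Ne, conj_eq_one_iff])
      (by first | exact Or.inr hf | exact Or.inl hf) (by simpa using hR huR)
    simpa using this

theorem generate_of_card {I : Subgroup V} (hI : Nat.card I = p) {d : V} (hd : d ∈ I) (hd1 : d ≠ 1)
    {x : V} (hx : x ∈ I) : ∃ n : ℕ, d ^ n = x := by
  obtain ⟨n, hn⟩ := (isOfFinOrder_of_finite d).mem_powers_iff_mem_zpowers.2
    (FusionQd.CentralLine.mem_zpowers_of_card hI hd hd1 hx)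
  exact ⟨n, hn⟩

/-- The involution of the pair of transvections. -/
theorem exists_invol (hY : Emb R Y) (hV : ∀ x : V, x ^ p = 1) {u : A} {I : Subgroup V}
    (h : Tv (u : MulAut V) I) (hI : Nat.card I = p) (hu : u ≠ 1) (huR : u ∈ (R : Subgroup A)) :
    ∃ α : A, α ^ 2 = 1 ∧ Commute α u ∧ (∀ i ∈ I, (α : MulAut V) i = i⁻¹) ∧
      (∀ x, (u : MulAut V) x = x → x⁻¹ * (α : MulAut V) x ∈ I) ∧
      ∀ x, (u : MulAut V) (x * (α : MulAut V) x) = x * (α : MulAut V) x := by
  obtain ⟨c, -, hc1, hc2⟩ := exists_generic hY hV h hu huR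
  set u' : A := c * u * c⁻¹ with hu'
  have h' : Tv (u' : MulAut V) (I.map (c : MulAut V).toMonoidHom) := by
    push_cast [hu']
    exact h.conj _
  set I' := I.map (c : MulAut V).toMonoidHom with hI'
  have hI'c : Nat.card I' = p := by
    rw [hI', Subgroup.card_map_of_injective (c : MulAut V).injective, hI]
  push Not at hc1 hc2
  obtain ⟨i, hiI, hi⟩ := hc1
  obtain ⟨j, hj⟩ : ∃ j, j = (i⁻¹ * (u' : MulAut V) i)⁻¹ := ⟨_, rfl⟩
  have hjI : j ∈ I' := hj ▸ inv_mem (h'.disp i)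
  have hi1 : i ≠ 1 := fun e => hi (by rw [e, map_one])
  have hj1 : j ≠ 1 := fun e => hi (by
    rw [hj, inv_eq_one, inv_mul_eq_one] at e; exact e.symm)
  have hui : (u' : MulAut V) i = i * j⁻¹ := by rw [hj, inv_inv, mul_inv_cancel_left]
  obtain ⟨d, hd⟩ : ∃ d, d = j⁻¹ * (u : MulAut V) j := ⟨_, rfl⟩
  have hdI : d ∈ I := hd ▸ h.disp j
  have hd1 : d ≠ 1 := by
    intro e
    obtain ⟨y, hy, hy'⟩ := hc2
    obtain ⟨n, rfl⟩ := generate_of_card hI'c hjI hj1 hy
    rw [hd, inv_mul_eq_one] at e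
    exact hy' (by rw [map_pow, ← e])
  obtain ⟨l, hl⟩ := generate_of_card hI hdI hd1 hiI
  set w : A := u ^ l * u' * u ^ l with hw
  have hu1j : ((u ^ l : A) : MulAut V) j = j * i := by
    push_cast; rw [h.pow_apply, ← hd, hl]
  have hu1f : ∀ o, (u : MulAut V) o = o → ((u ^ l : A) : MulAut V) o = o := fun o ho => by
    push_cast; rw [h.pow_apply, ho, inv_mul_cancel, one_pow, mul_one]
  have hu1i := hu1f i (h.fix i hiI)
  have hu'j : (u' : MulAut V) j = j := h'.fix j hjI
  have hwi : (w : MulAut V) i = j⁻¹ := by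
    show ((u ^ l : A) : MulAut V) ((u' : MulAut V) (((u ^ l : A) : MulAut V) i)) = _
    rw [hu1i, hui, map_mul, map_inv, hu1j, hu1i, mul_comm j i, mul_inv_rev, mul_comm j⁻¹ i⁻¹,
      mul_inv_cancel_left]
  have hwj : (w : MulAut V) j = i := by
    show ((u ^ l : A) : MulAut V) ((u' : MulAut V) (((u ^ l : A) : MulAut V) j)) = _
    rw [hu1j, map_mul, hu'j, hui, mul_comm i, ← mul_assoc, mul_inv_cancel, one_mul, hu1i]
  set α : A := w * w with hα
  have hαi : (α : MulAut V) i = i⁻¹ := by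
    show (w : MulAut V) ((w : MulAut V) i) = _
    rw [hwi, map_inv, hwj]
  have hαj : (α : MulAut V) j = j⁻¹ := by
    show (w : MulAut V) ((w : MulAut V) j) = _
    rw [hwj, hwi]
  have hαo : ∀ o, (u : MulAut V) o = o → (u' : MulAut V) o = o → (α : MulAut V) o = o := by
    intro o ho ho'
    have hwo : (w : MulAut V) o = o := by
      show ((u ^ l : A) : MulAut V) ((u' : MulAut V) (((u ^ l : A) : MulAut V) o)) = _
      rw [hu1f o ho, ho', hu1f o ho]
    show (w : MulAut V) ((w : MulAut V) o) = _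
    rw [hwo, hwo]
  have hfix : ∀ x, (u : MulAut V) x = x → ∃ a : ℕ, (u : MulAut V) (x * i ^ a) = x * i ^ a ∧
      (u' : MulAut V) (x * i ^ a) = x * i ^ a := by
    intro x hx
    obtain ⟨a, ha⟩ := generate_of_card hI'c hjI hj1 (h'.disp x)
    refine ⟨a, by rw [map_mul, map_pow, hx, h.fix i hiI], ?_⟩
    rw [map_mul, map_pow, hui, show (u' : MulAut V) x = x * j ^ a from
      eq_mul_of_inv_mul_eq ha.symm, mul_pow, inv_pow]
    exact Additive.ofMul.injective (by simp only [ofMul_mul, ofMul_inv, ofMul_pow]; abel)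
  have hdec : ∀ x, ∃ (o : V) (a b : ℕ), (u : MulAut V) o = o ∧ (u' : MulAut V) o = o ∧
      x = o * (i ^ a)⁻¹ * j ^ b := by
    intro x
    obtain ⟨b, hb⟩ := generate_of_card hI hdI hd1 (h.disp x)
    have hy : (u : MulAut V) (x * (j ^ b)⁻¹) = x * (j ^ b)⁻¹ := by
      rw [map_mul, map_inv, map_pow, show (u : MulAut V) x = x * d ^ b from
        eq_mul_of_inv_mul_eq hb.symm, show (u : MulAut V) j = j * d from
        eq_mul_of_inv_mul_eq hd.symm, mul_pow]
      exact Additive.ofMul.injective (by simp only [ofMul_mul, ofMul_inv, ofMul_pow]; abel)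
    obtain ⟨a, ha, ha'⟩ := hfix _ hy
    exact ⟨_, a, b, ha, ha', by rw [mul_inv_cancel_right, inv_mul_cancel_right]⟩
  have hαI : ∀ y ∈ I, (α : MulAut V) y = y⁻¹ := fun y hy => by
    obtain ⟨n, rfl⟩ := generate_of_card hI hiI hi1 hy
    rw [map_pow, hαi, inv_pow]
  have hαsum : ∀ x, (u : MulAut V) (x * (α : MulAut V) x) = x * (α : MulAut V) x := by
    intro x
    obtain ⟨o, a, b, ho, ho', rfl⟩ := hdec x
    have e : (o * (i ^ a)⁻¹ * j ^ b) * (α : MulAut V) (o * (i ^ a)⁻¹ * j ^ b) = o * o := by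
      rw [map_mul, map_mul, map_inv, map_pow, map_pow, hαi, hαj, hαo o ho ho', inv_pow, inv_pow]
      exact Additive.ofMul.injective (by simp only [ofMul_mul, ofMul_inv, ofMul_pow]; abel)
    rw [e, map_mul, ho]
  refine ⟨α, ?_, ?_, hαI, ?_, hαsum⟩
  · refine Subtype.ext (MulEquiv.ext fun x => ?_)
    obtain ⟨o, a, b, ho, ho', rfl⟩ := hdec x
    show (α : MulAut V) ((α : MulAut V) _) = _
    simp only [map_mul, map_inv, map_pow, hαi, hαj, hαo o ho ho', inv_pow, inv_inv]
    rfl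
  · refine Subtype.ext (MulEquiv.ext fun x => ?_)
    show (α : MulAut V) ((u : MulAut V) x) = (u : MulAut V) ((α : MulAut V) x)
    have e1 : (u : MulAut V) ((α : MulAut V) x) =
        ((u : MulAut V) x)⁻¹ * (x * (α : MulAut V) x) := by
      rw [← hαsum x, map_mul, inv_mul_cancel_left]
    rw [e1, show (α : MulAut V) ((u : MulAut V) x) = (α : MulAut V) (x * (x⁻¹ * (u : MulAut V) x))
      by rw [mul_inv_cancel_left], map_mul, hαI _ (h.disp x), mul_inv_rev, inv_inv]
    exact Additive.ofMul.injective (by simp only [ofMul_mul, ofMul_inv, ofMul_pow]; abel)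
  · intro x hx
    obtain ⟨a, ha, ha'⟩ := hfix x hx
    have e := hαo _ ha ha'
    rw [map_mul, map_pow, hαi, inv_pow, mul_inv_eq_iff_eq_mul] at e
    rw [e, mul_assoc, inv_mul_cancel_left]
    exact mul_mem (pow_mem hiI a) (pow_mem hiI a)

/-- A Sylow subgroup fixing a hyperplane and its quotient has order `p`. -/
theorem card_lt (hY : Emb R Y) (hV : ∀ x : V, x ^ p = 1) {u : A} {I H : Subgroup V}
    (h : Tv (u : MulAut V) I) (hI : Nat.card I = p) (hu : u ≠ 1) (huR : u ∈ (R : Subgroup A))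
    (hH : Nat.card H = p ^ 2) (hRH : ∀ r ∈ (R : Subgroup A), ∀ x, x⁻¹ * (r : MulAut V) x ∈ H) :
    Nat.card (R : Subgroup A) < p ^ 2 := by
  by_contra hbig
  rw [not_lt] at hbig
  obtain ⟨c, hcY, hc1, -⟩ := exists_generic hY hV h hu huR
  have hR : (R : Subgroup A) ≤ Y := Subgroup.le_normalizer.trans
    (hY.norm R le_rfl fun e => hu (by simpa [e] using huR))
  set u' : A := c * u * c⁻¹ with hu'
  have h' : Tv (u' : MulAut V) (I.map (c : MulAut V).toMonoidHom) := by
    push_cast [hu']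
    exact h.conj _
  set I' := I.map (c : MulAut V).toMonoidHom with hI'
  have hI'c : Nat.card I' = p := by
    rw [hI', Subgroup.card_map_of_injective (c : MulAut V).injective, hI]
  have hp := (Fact.out : p.Prime)
  obtain ⟨j, hjI, hj1⟩ : ∃ j ∈ I', j ≠ 1 := by
    by_contra hcon
    push Not at hcon
    have : I' = ⊥ := (Subgroup.eq_bot_iff_forall _).2 hcon
    rw [this, Subgroup.card_bot] at hI'c
    exact hp.ne_one hI'c.symm
  obtain ⟨π, hπR, hπ1, hπj⟩ : ∃ π ∈ (R : Subgroup A), π ≠ 1 ∧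
      (u' : MulAut V) ((π : MulAut V) j) = (π : MulAut V) j := by
    let f : ↥(R : Subgroup A) → H := fun r => ⟨j⁻¹ * ((r : A) : MulAut V) j, hRH r r.2 j⟩
    by_cases hinj : Function.Injective f
    · have hsurj : Function.Surjective f :=
        (hinj.bijective_of_nat_card_le (hH.trans_le hbig)).2
      obtain ⟨o, ho1, ho⟩ : ∃ o : H, o ≠ 1 ∧ (u' : MulAut V) (o : V) = o := by
        let g : H → I' := fun o => ⟨(o : V)⁻¹ * (u' : MulAut V) o, h'.disp o⟩
        have hni : ¬ Function.Injective g := fun hg => by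
          have := Nat.card_le_card_of_injective g hg
          rw [hH, hI'c] at this
          exact absurd this (not_le.2 (lt_self_pow₀ hp.one_lt (by norm_num)))
        simp only [Function.Injective, not_forall] at hni
        obtain ⟨a, b, hab, hne⟩ := hni
        have hab' : (a : V)⁻¹ * (u' : MulAut V) a = (b : V)⁻¹ * (u' : MulAut V) b :=
          congrArg Subtype.val hab
        refine ⟨b⁻¹ * a, fun e => hne (inv_mul_eq_one.1 e).symm, ?_⟩
        push_cast
        rw [map_mul, map_inv, eq_mul_of_inv_mul_eq hab']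
        exact Additive.ofMul.injective (by simp only [ofMul_mul, ofMul_inv, ofMul_pow]; abel)
      obtain ⟨r, hr⟩ := hsurj o
      have hrj : ((r : A) : MulAut V) j = j * o := eq_mul_of_inv_mul_eq (congrArg Subtype.val hr)
      refine ⟨r, r.2, fun e => ho1 ?_, ?_⟩
      · refine Subtype.ext ?_
        have e' := congrArg Subtype.val hr
        simp only [f, e, OneMemClass.coe_one, MulAut.one_apply, inv_mul_cancel] at e'
        exact e'.symm
      · rw [hrj, map_mul, h'.fix j hjI, ho]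
    · simp only [Function.Injective, not_forall] at hinj
      obtain ⟨a, b, hab, hne⟩ := hinj
      have hab' : ((a : A) : MulAut V) j = ((b : A) : MulAut V) j :=
        mul_left_cancel (congrArg Subtype.val hab)
      refine ⟨(b : A)⁻¹ * a, mul_mem (inv_mem b.2) a.2, fun e => hne ?_, ?_⟩
      · exact (Subtype.ext (inv_mul_eq_one.1 e)).symm
      · push_cast
        rw [MulAut.mul_apply, hab', MulAut.inv_apply_self]
        exact h'.fix j hjI
  set u'' : A := π * u' * π⁻¹ with hu''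
  have h'' : Tv (u'' : MulAut V) (I'.map (π : MulAut V).toMonoidHom) := by
    push_cast [hu'']
    exact h'.conj _
  have hlink := mem_of_link (c := c) hY hR hV h' h'' (by rwa [Ne, conj_eq_one_iff])
    (by rw [Ne, conj_eq_one_iff, hu', conj_eq_one_iff]; exact hu) (Or.inl ?_)
    (by simpa [hu', mul_assoc] using hR huR)
  · have hg : c⁻¹ * π * c ∈ Y := hY.mem_of_conj hR (hR huR)
      (Subtype.ext (by push_cast; exact h.pow_prime hV)) hu (by
        simpa [hu'', hu', mul_assoc] using hlink)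
    obtain ⟨k, hk⟩ := R.2 ⟨π, hπR⟩
    obtain ⟨e, he⟩ := (Nat.dvd_prime_pow hp).1
      (orderOf_dvd_of_pow_eq_one (congrArg Subtype.val hk))
    have he1 : e ≠ 0 := by
      rintro rfl
      exact hπ1 (orderOf_eq_one_iff.1 (he.2.trans (pow_zero p)))
    set ρ := π ^ p ^ (e - 1) with hρ
    have hρp : ρ ^ p = 1 := by
      rw [hρ, ← pow_mul, ← pow_succ, Nat.sub_add_cancel (Nat.pos_of_ne_zero he1), ← he.2,
        pow_orderOf_eq_one]
    have hρ1 : ρ ≠ 1 := pow_ne_one_of_lt_orderOf (pow_ne_zero _ hp.ne_zero)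
      (he.2 ▸ Nat.pow_lt_pow_right hp.one_lt (by omega))
    have hc' : c⁻¹ ∈ Y := hY.mem_of_conj hR (hR (pow_mem hπR _)) hρp hρ1 (by
      rw [inv_inv]
      have := pow_mem hg (p ^ (e - 1))
      have e' := conj_pow (a := c⁻¹) (b := π) (i := p ^ (e - 1))
      rw [inv_inv] at e'
      rwa [e'] at this)
    exact hcY (inv_mem_iff.1 hc')
  · rintro _ ⟨y, hy, rfl⟩
    obtain ⟨n, rfl⟩ := generate_of_card hI'c hjI hj1 hy
    show (u' : MulAut V) ((π : MulAut V) (j ^ n)) = (π : MulAut V) (j ^ n)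
    rw [map_pow, map_pow, hπj]

end Cfsg.Agent.MCE
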