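import Mathlib
import Cfsg.Agent.MCE.Centric
import Cfsg.Agent.MCE.Transvection
import Cfsg.Agent.FusionQd.CentralLine

/-!
An abelian essential subgroup of order `p ^ 3` of a system on a group of maximal class gives an
involution on the fourth layer from the bottom.
-/

set_option autoImplicit false

open Cfsg Cfsg.FusionSystem Cfsg.Agent.FusionSys
open scoped commutatorElement

namespace Cfsg.Agent.MCE

open MaxClassP (lcs twoStep)

variable {Ω : Type*} [Group Ω] {S : Subgroup Ω}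

/-- A term of the lower central series of `S`, in the ambient group. -/
def layer (S : Subgroup Ω) (j : ℕ) : Subgroup Ω := (lcs ↥S j).map S.subtype

theorem layer_le (j : ℕ) : layer S j ≤ S := Subgroup.map_subtype_le _

theorem mem_layer {j : ℕ} {x : S} : (x : Ω) ∈ layer S j ↔ x ∈ lcs ↥S j :=
  Subgroup.mem_map_iff_mem S.subtype_injective

theorem le_normalizer_layer (j : ℕ) [Finite S] : S ≤ Subgroup.normalizer (layer S j : Set Ω) := by
  intro g hg
  haveI : Finite (layer S j) := finite_of_le ‹_› (layer_le j)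
  refine Subgroup.mem_normalizer_fintype (S := (layer S j : Set Ω)) fun x hx => ?_
  obtain ⟨y, hy, rfl⟩ := hx
  exact ⟨⟨g, hg⟩ * y * ⟨g, hg⟩⁻¹,
    (inferInstance : (lcs ↥S j).Normal).conj_mem y hy ⟨g, hg⟩, rfl⟩

/-- An automorphism fixing a hyperplane and the quotient by it is a transvection. -/
theorem tv_of_hyperplane {V : Type*} [CommGroup V] [Finite V] {p : ℕ} [Fact p.Prime] {u : MulAut V}
    {H : Subgroup V} (hH : H.index = p) (hfix : ∀ h ∈ H, u h = h) (hd : ∀ x, x⁻¹ * u x ∈ H)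
    (hu : u ≠ 1) :
    ∃ I : Subgroup V, Tv u I ∧ Nat.card I = p ∧ I ≤ H ∧ (∀ x, u x = x → x ∈ H) ∧
      ∀ i ∈ I, ∃ x, i = x⁻¹ * u x := by
  let δ : V →* V := MonoidHom.mk' (fun x => x⁻¹ * u x) fun x y => by
    simp [mul_comm, mul_left_comm, mul_assoc]
  have hker : H ≤ δ.ker := fun h hh => by
    show h⁻¹ * u h = 1
    rw [hfix h hh, inv_mul_cancel]
  have hne : δ.ker ≠ ⊤ := fun e => hu (MulEquiv.ext fun x =>
    (inv_mul_eq_one.1 (e.ge (Subgroup.mem_top x) : δ x = 1)).symm)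
  have hidx : δ.ker.index = p := by
    have := Subgroup.index_dvd_of_le hker
    rw [hH, Nat.dvd_prime (Fact.out : p.Prime)] at this
    exact this.resolve_left fun e => hne (Subgroup.index_eq_one.1 e)
  have hH' : H = δ.ker := Subgroup.eq_of_le_of_card_ge hker (le_of_eq (by
    have h1 := H.card_mul_index
    rw [← δ.ker.card_mul_index, hH, hidx] at h1
    exact (Nat.eq_of_mul_eq_mul_right (Fact.out : p.Prime).pos h1).symm))
  refine ⟨δ.range, ⟨fun x => ⟨x, rfl⟩, ?_⟩, ?_, ?_, fun x hx => hH' ▸ (show δ x = 1 by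
    show x⁻¹ * u x = 1
    rw [hx, inv_mul_cancel]), ?_⟩
  · rintro _ ⟨x, rfl⟩; exact hfix _ (hd x)
  · rw [← Subgroup.index_ker, hidx]
  · rintro _ ⟨x, rfl⟩; exact hd x
  · rintro _ ⟨x, rfl⟩; exact ⟨x, rfl⟩

variable [Finite S] {p : ℕ} [Fact p.Prime] {m : ℕ}

/-- The involution on the layer `L (m - 3)`. -/
theorem exists_layer_invol (hS : IsPGroup p S) (hp2 : p ≠ 2) (D : MaxData p m ↥S)
    (F : FusionSystem S) (hF : F.IsSaturated p) (E : Subgroup Ω) (hE : F.IsEssential p E)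
    (hcard : Nat.card E = p ^ 3) (hel : IsElementaryAbelian p E) :
    ∃ γ ∈ F.autGroup (layer S (m - 3)), ∃ I : Subgroup ↥(layer S (m - 3)), γ ^ 2 = 1 ∧
      Nat.card I = p ∧ I ≤ (layer S (m - 2)).subgroupOf (layer S (m - 3)) ∧
      (∀ y, y⁻¹ * γ y ∈ I) ∧ (∀ i ∈ I, γ i = i⁻¹) ∧
      (¬ I ≤ (layer S (m - 1)).subgroupOf (layer S (m - 3)) →
        twoStep ↥S (m - 2) ≠ twoStep ↥S 1) := by
  classical
  have hp := (Fact.out : p.Prime)
  have hm := D.hm
  have hES : E ≤ S := hE.1.1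
  haveI : Finite E := finite_of_le ‹_› hES
  have hcomm : ∀ x y : E, x * y = y * x := fun x y => hel.1.is_comm.comm x y
  letI : CommGroup E := { (inferInstance : Group E) with mul_comm := hcomm }
  have hexp : ∀ x : E, x ^ p = 1 := fun x => Subtype.ext (by push_cast; exact hel.2 _ x.2)
  set E' : Subgroup S := E.subgroupOf S with hE'
  have hC : Cube p E' := by
    refine ⟨?_, ?_, fun x hx => ?_⟩
    · intro x hx y hy
      have h := congrArg Subtype.val (hcomm ⟨(x : Ω), hx⟩ ⟨(y : Ω), hy⟩)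
      exact Subtype.ext h
    · rw [hE', Nat.card_congr (Subgroup.subgroupOfEquivOfLe hES).toEquiv, hcard]
    · exact hE.1.2 E (isConj_refl F hES) (mem_centralizerIn.2 ⟨x.2, fun y hy =>
        congrArg Subtype.val (hx ⟨y, hES hy⟩ hy)⟩)
  have hNiff : ∀ x : S, x ∈ Subgroup.normalizer (E' : Set S) ↔
      (x : Ω) ∈ Subgroup.normalizer (E : Set Ω) := by
    intro x
    constructor
    · intro h
      refine Subgroup.mem_normalizer_fintype (S := (E : Set Ω)) fun y hy => ?_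
      exact (Subgroup.mem_normalizer_iff.1 h ⟨y, hES hy⟩).1 hy
    · intro h
      exact Subgroup.mem_normalizer_iff.2 fun y => Subgroup.mem_normalizer_iff.1 h y
  set NQ := Subgroup.normalizer (E' : Set S) with hNQ
  -- the action on `E`
  set A := F.autGroup E with hA
  let ν : ↥NQ →* A := (E.normalizerMonoidHom.comp
    ((S.subtype.comp NQ.subtype).codRestrict _ fun x => (hNiff x).1 x.2)).codRestrict A fun x =>
      autInducedBy_le_autGroup F hES (mem_autInducedBy.2 ⟨(x : S), (x : S).2, fun _ => rfl⟩)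
  have hνapp : ∀ (x : ↥NQ) (e : E), (((ν x : MulAut E) e : E) : Ω) =
      (x : S) * (e : Ω) * (((x : S) : Ω))⁻¹ := fun x e => rfl
  have hνker : ∀ x : ↥NQ, ν x = 1 → (x : S) ∈ E' := by
    intro x hx
    refine hC.self _ fun y hy => Subtype.ext ?_
    have h1 := hνapp x ⟨y, hy⟩
    rw [hx] at h1
    change (y : Ω) = _ at h1
    push_cast
    conv_lhs => rw [h1]
    simp
  have hEN : E' ≤ NQ := Subgroup.le_normalizer
  have hνE : ∀ x : ↥NQ, (x : S) ∈ E' → ν x = 1 := fun x hx =>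
    Subtype.ext (MulEquiv.ext fun e => Subtype.ext (by
      rw [hνapp, show ((x : S) : Ω) * (e : Ω) = (e : Ω) * (x : S) from
        congrArg Subtype.val (hcomm ⟨_, hx⟩ e), mul_inv_cancel_right]
      rfl))
  obtain ⟨-, R, hR⟩ := (saturated_fullyNormalized hS hF hE.2.1).2
  have hνrange : ν.range = (R : Subgroup A) := by
    ext a
    rw [hR, Subgroup.mem_subgroupOf, mem_autInducedBy]
    constructor
    · rintro ⟨x, rfl⟩
      exact ⟨(x : S), (x : S).2, fun _ => rfl⟩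
    · rintro ⟨g, hg, h⟩
      have hgN : g ∈ Subgroup.normalizer (E : Set Ω) := by
        refine Subgroup.mem_normalizer_fintype (S := (E : Set Ω)) fun y hy => ?_
        have := ((a : MulAut E) ⟨y, hy⟩).2
        rwa [h ⟨y, hy⟩] at this
      refine ⟨⟨⟨g, hg⟩, (hNiff _).2 hgN⟩, Subtype.ext (MulEquiv.ext fun e => Subtype.ext ?_)⟩
      rw [hνapp]
      exact (h e).symm
  have hcardN : Nat.card NQ = p ^ 3 * Nat.card (R : Subgroup A) := by
    rw [← ν.ker.card_mul_index, Subgroup.index_ker, hνrange]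
    congr 1
    rw [show ν.ker = E'.subgroupOf NQ from le_antisymm (fun x hx => hνker x hx)
      (fun x hx => hνE x hx), Nat.card_congr (Subgroup.subgroupOfEquivOfLe hEN).toEquiv, hC.card]
  -- strongly embedded
  obtain ⟨Y, hY⟩ : ∃ Y : Subgroup A, Emb R Y := by
    obtain ⟨hn, W, hW⟩ := hE.2.2
    have hbot : (Inn E).subgroupOf A = ⊥ := by
      refine (Subgroup.eq_bot_iff_forall _).2 fun a ha => Subtype.ext ?_
      obtain ⟨z, hz⟩ := ha
      rw [show (a : MulAut E) = MulAut.conj z from hz.symm]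
      refine MulEquiv.ext fun e => ?_
      rw [MulAut.conj_apply, hcomm z e, mul_inv_cancel_right]
      rfl
    set π := QuotientGroup.mk' ((Inn E).subgroupOf A) with hπ
    have hπi : Function.Injective π := by
      rw [← MonoidHom.ker_eq_bot_iff, hπ, QuotientGroup.ker_mk', hbot]
    have hπs : Function.Surjective π := QuotientGroup.mk'_surjective _
    obtain ⟨E₀, hE₀, hN⟩ := FusionSys.spe_forall_sylow hW (R.mapSurjective hπs)
    refine ⟨E₀.comap π, fun e => hE₀ ?_, fun Q hQ hne => ?_⟩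
    · rw [← Subgroup.map_comap_eq_self_of_surjective hπs E₀, e,
        Subgroup.map_top_of_surjective _ hπs]
    · refine Subgroup.map_le_iff_le_comap.1 ((Subgroup.le_normalizer_map π).trans (hN _ ?_ ?_))
      · exact Subgroup.map_mono hQ
      · rwa [Ne, Subgroup.map_eq_bot_iff_of_injective _ hπi]
  -- subgroups of `E'` seen in `E`
  have hsub : ∀ H : Subgroup S, H ≤ E' → Nat.card H = p ^ 2 →
      Nat.card ((H.map S.subtype).subgroupOf E) = p ^ 2 ∧
      ((H.map S.subtype).subgroupOf E).index = p := by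
    intro H hH hc
    have hle : H.map S.subtype ≤ E := by
      rintro _ ⟨x, hx, rfl⟩
      exact hH hx
    have h1 : Nat.card ((H.map S.subtype).subgroupOf E) = p ^ 2 := by
      rw [Nat.card_congr (Subgroup.subgroupOfEquivOfLe hle).toEquiv,
        Subgroup.card_map_of_injective S.subtype_injective, hc]
    refine ⟨h1, ?_⟩
    have h2 := ((H.map S.subtype).subgroupOf E).card_mul_index
    rw [h1, hcard] at h2
    exact Nat.eq_of_mul_eq_mul_left (pow_pos hp.pos 2) (h2.trans (pow_succ p 2))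
  have hmem : ∀ (H : Subgroup S) (z : E), z ∈ (H.map S.subtype).subgroupOf E ↔
      (⟨z, hES z.2⟩ : S) ∈ H := fun H z => by
    rw [Subgroup.mem_subgroupOf]
    exact Subgroup.mem_map_iff_mem (f := S.subtype) (x := (⟨z, hES z.2⟩ : S)) S.subtype_injective
  have hdisp : ∀ (x : ↥NQ) (e : E), (⟨((e⁻¹ * (ν x : MulAut E) e : E) : Ω), hES (e⁻¹ * _ : E).2⟩ : S)
      = ⁅(x : S), (⟨e, hES e.2⟩ : S)⁆ := by
    intro x e
    refine Subtype.ext ?_
    show (((e⁻¹ * (ν x : MulAut E) e : E)) : Ω) = _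
    rw [hcomm e⁻¹]
    push_cast
    rw [hνapp]
    simp [commutatorElement_def]
  have htv : ∀ (H : Subgroup S) (g : S) (hg : g ∈ NQ), H ≤ E' → Nat.card H = p ^ 2 → g ∉ E' →
      (∀ h ∈ H, g * h = h * g) → (∀ e ∈ E', ⁅g, e⁆ ∈ H) →
      ∃ I : Subgroup E, Tv (ν ⟨g, hg⟩ : MulAut E) I ∧ Nat.card I = p ∧
        I ≤ (H.map S.subtype).subgroupOf E ∧ ν ⟨g, hg⟩ ≠ 1 ∧
        (∀ x, (ν ⟨g, hg⟩ : MulAut E) x = x → x ∈ (H.map S.subtype).subgroupOf E) ∧
        (∀ x ∈ (H.map S.subtype).subgroupOf E, (ν ⟨g, hg⟩ : MulAut E) x = x) ∧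
        ∀ i ∈ I, ∃ e : E, (⟨i, hES i.2⟩ : S) = ⁅g, (⟨e, hES e.2⟩ : S)⁆ := by
    intro H g hg hH hc hgE hfix hd
    have hfix' : ∀ x ∈ (H.map S.subtype).subgroupOf E, (ν ⟨g, hg⟩ : MulAut E) x = x := by
      intro x hx
      refine Subtype.ext ?_
      rw [hνapp]
      have := congrArg Subtype.val (hfix _ ((hmem H x).1 hx))
      push_cast at this
      rw [this, mul_inv_cancel_right]
    have hne : ν ⟨g, hg⟩ ≠ 1 := fun e => hgE (hνker _ e)
    obtain ⟨I, h1, h2, h3, h4, h5⟩ := tv_of_hyperplane (hsub H hH hc).2 hfix'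
      (fun x => by rw [hmem, hdisp]; exact hd _ x.2)
      (fun e => hne (Subtype.ext e))
    refine ⟨I, h1, h2, h3, hne, h4, hfix', fun i hi => ?_⟩
    obtain ⟨e, rfl⟩ := h5 i hi
    exact ⟨e, hdisp _ e⟩
  -- first stage: the normaliser has order `p ^ 4`
  obtain ⟨H₁, g₁, hH₁, hc₁, hg₁, hg₁E, hfix₁, hd₁⟩ := exists_first D hC
  obtain ⟨I₁, hI₁, hI₁c, -, hu₁, -⟩ := htv H₁ g₁ hg₁ hH₁ hc₁ hg₁E hfix₁ (hd₁ g₁ hg₁)
  have hlt := card_lt hY hexp hI₁ hI₁c hu₁ (hνrange ▸ ⟨_, rfl⟩) (hsub H₁ hH₁ hc₁).1 (by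
    intro r hr x
    obtain ⟨w, rfl⟩ := hνrange.ge hr
    rw [hmem, hdisp]
    exact hd₁ _ w.2 _ x.2)
  have hRc : Nat.card (R : Subgroup A) = p := by
    obtain ⟨k, hk⟩ := IsPGroup.iff_card.1 R.2
    rw [hk, Nat.pow_lt_pow_iff_right hp.one_lt] at hlt
    rcases (by omega : k = 0 ∨ k = 1) with rfl | rfl
    · rw [pow_zero] at hk
      refine absurd ?_ hu₁
      have h := Subgroup.eq_bot_of_card_le (R : Subgroup A) hk.le
      exact Subgroup.mem_bot.1 (h ▸ hνrange ▸ ⟨_, rfl⟩)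
    · rw [hk, pow_one]
  have hN4 : Nat.card NQ = p ^ 4 := by rw [hcardN, hRc, ← pow_succ]
  -- second stage
  obtain ⟨hc₂, hLN, g, hgL, hgE, hxg, hgd, hgC⟩ := exists_second D hC hN4
  set Zc := E' ⊓ lcs ↥S (m - 3) with hZc
  have hfix₂ : ∀ h ∈ Zc, g * h = h * g := fun h hh => D.third_comm hgL hh.2
  obtain ⟨I, hI, hIc, hIH, hu, hufix, hfixu, hIgen⟩ := htv Zc g (hLN hgL) inf_le_left hc₂ hgE
    hfix₂ (fun e he => ⟨comm_mem_of_normalizer (hLN hgL) he,
      Subgroup.lowerCentralSeries_antitone _ (by omega) (hgd e he)⟩)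
  set u := ν ⟨g, hLN hgL⟩ with hudef
  have huR : u ∈ (R : Subgroup A) := hνrange ▸ ⟨_, rfl⟩
  obtain ⟨α, hα2, hαu, hαI, hαfix, -⟩ := exists_invol hY hexp hI hIc hu huR
  have hαR : ∀ r ∈ (R : Subgroup A), Commute α r := by
    intro r hr
    have hgen : Subgroup.zpowers u = (R : Subgroup A) := by
      refine Subgroup.eq_of_le_of_card_ge (Subgroup.zpowers_le.2 huR) ?_
      rw [hRc, Nat.card_zpowers]
      exact le_of_eq (((Nat.dvd_prime hp).1 (hRc ▸ Subgroup.orderOf_dvd_natCard _ huR)).resolve_left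
        fun e => hu (orderOf_eq_one_iff.1 e)).symm
    obtain ⟨k, rfl⟩ := Subgroup.mem_zpowers_iff.1 (hgen.ge hr)
    exact hαu.zpow_right k
  -- extend to the normaliser
  have hle : E ≤ normalizerIn S E := le_inf hES Subgroup.le_normalizer
  obtain ⟨ψ, hψ, hψe⟩ := FusionAlperin.exists_ext_aut'
    (saturated_receptive_of_fullyNormalized hS hF hE.2.1) α.2 hle le_rfl (by
      intro y hy
      have hy1 : y ∈ S := hy.1
      have hy2 : y ∈ Subgroup.normalizer (E : Set Ω) := hy.2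
      refine ⟨⟨y, hy2⟩, ?_, rfl⟩
      show (α : MulAut E) * E.normalizerMonoidHom ⟨y, hy2⟩ * (α : MulAut E)⁻¹ ∈ autInducedBy S E
      have hin : E.normalizerMonoidHom ⟨y, hy2⟩ ∈ autInducedBy S E :=
        mem_autInducedBy.2 ⟨y, hy1, fun _ => rfl⟩
      have hc : Commute (α : MulAut E) (E.normalizerMonoidHom ⟨y, hy2⟩) :=
        congrArg Subtype.val (hαR ⟨_, autInducedBy_le_autGroup F hES hin⟩
          (by rw [hR]; exact hin)).eq
      rw [hc.eq, mul_inv_cancel_right]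
      exact hin)
  have hψN : ∀ y, ψ y ∈ normalizerIn S E := fun y => ⟨map_mem_S F hψ y,
    map_mem_normalizer hle inf_le_right ((map_subgroupOf_eq_range E hle
      (φ := E.subtype.comp (α : MulAut E).toMonoidHom) hψe).trans (range_subtype_comp _)) y⟩
  let f : ↥NQ →* ↥NQ := MonoidHom.codRestrict (MonoidHom.codRestrict
    (ψ.comp ((S.subtype.comp NQ.subtype).codRestrict _ fun x =>
      (⟨(x : S).2, (hNiff x).1 x.2⟩ : ((x : S) : Ω) ∈ normalizerIn S E))) S
    fun x => (hψN _).1) NQ fun x => (hNiff _).2 (hψN _).2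
  have hfe : ∀ (x : ↥NQ) (hx : (x : S) ∈ E'), ((f x : S) : Ω) = (α : MulAut E) ⟨(x : S), hx⟩ :=
    fun x hx => hψe ⟨(x : S), hx⟩
  have hfy : ∀ x : ↥NQ, (x : S)⁻¹ * (f x : S) ∈ E' := by
    intro x
    refine hνker (x⁻¹ * f x) ?_
    rw [map_mul, map_inv, inv_mul_eq_one]
    refine Subtype.ext (MulEquiv.ext fun e => ?_)
    set e₀ := (α : MulAut E)⁻¹ e
    have he₀ : (α : MulAut E) e₀ = e := MulAut.apply_inv_self _ _ e
    have h1 : (α : MulAut E) ((ν x : MulAut E) e₀) = (ν (f x) : MulAut E) ((α : MulAut E) e₀) := by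
      refine Subtype.ext ?_
      rw [hνapp]
      set xe : ↥NQ := x * ⟨⟨e₀, hES e₀.2⟩, hEN e₀.2⟩ * x⁻¹ with hxe
      have hxeE : (xe : S) ∈ E' := ((ν x : MulAut E) e₀).2
      have h2 : ((f xe : S) : Ω) = (f x : S) * ((α : MulAut E) e₀ : Ω) * (((f x : S)) : Ω)⁻¹ := by
        rw [hxe, map_mul, map_mul, map_inv]
        push_cast
        rw [hfe ⟨⟨e₀, hES e₀.2⟩, hEN e₀.2⟩ e₀.2]
      rw [← h2, hfe xe hxeE]
      rfl
    have h3 : (α : MulAut E) ((ν x : MulAut E) e₀) = (ν x : MulAut E) ((α : MulAut E) e₀) :=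
      DFunLike.congr_fun (congrArg Subtype.val (hαR _ (hνrange ▸ ⟨x, rfl⟩) : α * ν x = ν x * α)) e₀
    rw [← he₀, ← h3, h1]
  have hαZ : ∀ x ∈ (Zc.map S.subtype).subgroupOf E,
      (α : MulAut E) x ∈ (Zc.map S.subtype).subgroupOf E := by
    intro x hx
    refine hufix _ ?_
    rw [← MulAut.mul_apply, ← Subgroup.coe_mul, ← hαu.eq, Subgroup.coe_mul, MulAut.mul_apply,
      hfixu x hx]
  -- the layer is preserved
  set T3 := lcs ↥S (m - 3) with hT3
  have hT3n : T3.Normal := inferInstance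
  have hL3c : Nat.card T3 = p ^ 3 := by
    rw [D.card _ (by omega) (by omega), show m - (m - 3) = 3 by omega]
  have hZn : ∀ h ∈ Zc, ∀ y ∈ NQ, h * y = y * h := by
    have hgen : E' ⊔ T3 = NQ := by
      refine Subgroup.eq_of_le_of_card_ge (sup_le hEN hLN) ?_
      have hlt : E' < E' ⊔ T3 := lt_of_le_of_ne le_sup_left fun e => hgE (e.ge (Subgroup.mem_sup_right hgL))
      have h1 : Nat.card E' < Nat.card (E' ⊔ T3 : Subgroup S) :=
        Set.ncard_lt_ncard (SetLike.coe_ssubset_coe.mpr hlt) (Set.toFinite _)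
      obtain ⟨k, hk⟩ := IsPGroup.iff_card.1 (hS.to_subgroup (E' ⊔ T3))
      rw [hC.card, hk, Nat.pow_lt_pow_iff_right hp.one_lt] at h1
      rw [hN4, hk]
      exact Nat.pow_le_pow_right hp.pos (by omega)
    intro h hh y hy
    have : E' ⊔ T3 ≤ Subgroup.centralizer ({h} : Set S) := sup_le
      (fun w hw => Subgroup.mem_centralizer_singleton_iff.2 (hC.comm w hw h hh.1))
      (fun w hw => Subgroup.mem_centralizer_singleton_iff.2 (D.third_comm hw hh.2))
    exact (Subgroup.mem_centralizer_singleton_iff.1 (this (hgen.ge hy))).symm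
  have hkeep : ∀ x : ↥NQ, (x : S) ∈ T3 → (f x : S) ∈ T3 := by
    by_contra hcon
    push Not at hcon
    obtain ⟨y, hy, hy'⟩ := hcon
    set e := (y : S)⁻¹ * (f y : S) with he
    have heE : e ∈ E' := hfy y
    have heZ : e ∉ Zc := fun h => hy' (by
      have := mul_mem hy h.2
      rwa [he, mul_inv_cancel_left] at this)
    have hyE : (y : S) ∉ E' := fun h => by
      have h' : (⟨(y : S), h⟩ : E) ∈ (Zc.map S.subtype).subgroupOf E := (hmem _ _).2 ⟨h, hy⟩
      have h2 := (hmem _ _).1 (hαZ _ h')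
      have h3 : (f y : S) ∈ Zc := by
        convert h2 using 1
        exact Subtype.ext (hfe y h)
      exact hy' h3.2
    -- an element moving `E'`
    have hNlt : NQ < ⊤ := lt_top_iff_ne_top.2 fun e' => by
      rw [e', Subgroup.card_top, D.ord] at hN4
      have := Nat.pow_right_injective hp.two_le hN4
      omega
    haveI : Group.IsNilpotent ↥S := hS.isNilpotent
    obtain ⟨x₀, hx₀, hx₀N⟩ := SetLike.exists_of_lt
      (normalizerCondition_of_isNilpotent NQ hNlt)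
    have htriv : ∀ w ∈ NQ, ⁅x₀, w⁆ ∈ T3 := by
      set K := Subgroup.normalizer (NQ : Set S) with hK
      have hNK : NQ ≤ K := Subgroup.le_normalizer
      haveI : (T3.subgroupOf K).Normal := inferInstance
      haveI : (NQ.subgroupOf K).Normal := Subgroup.normal_in_normalizer
      set π := QuotientGroup.mk' (T3.subgroupOf K)
      have hcen : (NQ.subgroupOf K).map π ≤ Subgroup.center _ := by
        haveI : ((NQ.subgroupOf K).map π).Normal :=
          Subgroup.Normal.map inferInstance π (QuotientGroup.mk'_surjective _)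
        refine PGroup.le_center_of_card_eq ((hS.to_subgroup K).to_quotient _) ?_
        rw [PSolv.card_map_mk_eq_relIndex, Subgroup.relIndex_subgroupOf hNK]
        have h1 := Subgroup.relIndex_mul_relIndex ⊥ T3 NQ bot_le hLN
        rw [Subgroup.relIndex_bot_left, Subgroup.relIndex_bot_left, hL3c, hN4] at h1
        exact Nat.eq_of_mul_eq_mul_left (pow_pos hp.pos 3) (h1.trans (pow_succ p 3))
      intro w hw
      have h1 := Subgroup.mem_center_iff.1 (hcen (Subgroup.mem_map_of_mem π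
        (show (⟨w, hNK hw⟩ : K) ∈ NQ.subgroupOf K from hw))) (π ⟨x₀, hx₀⟩)
      rw [← commutatorElement_eq_one_iff_mul_comm, ← map_commutatorElement] at h1
      exact (QuotientGroup.eq_one_iff (N := T3.subgroupOf K) _).1 h1
    have hZinv : ∀ h ∈ Zc, x₀ * h * x₀⁻¹ ∈ Zc := by
      intro h hh
      refine ⟨hC.self _ fun w hw => ?_, hT3n.conj_mem h hh.2 x₀⟩
      have hw' : x₀⁻¹ * w * x₀ ∈ NQ := by
        have := (Subgroup.mem_normalizer_iff.1 (inv_mem hx₀) w).1 (hEN hw)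
        rwa [inv_inv] at this
      calc w * (x₀ * h * x₀⁻¹) = x₀ * ((x₀⁻¹ * w * x₀) * h) * x₀⁻¹ := by group
        _ = x₀ * (h * (x₀⁻¹ * w * x₀)) * x₀⁻¹ := by rw [hZn h hh _ hw']
        _ = (x₀ * h * x₀⁻¹) * w := by group
    have hline : ∀ {d : S}, d ∈ T3 → d ∉ E' → ∀ w ∈ T3, ∃ h ∈ Zc, ∃ k : ℕ, w = h * d ^ k := by
      intro d hd hd' w hw
      haveI : (Zc.subgroupOf T3).Normal := ⟨fun a ha b => by
        have : b * a * b⁻¹ = a := Subtype.ext (by
          push_cast; rw [D.third_comm b.2 a.2, mul_inv_cancel_right])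
        rwa [this]⟩
      set π := QuotientGroup.mk' (Zc.subgroupOf T3)
      have hq : Nat.card (↥T3 ⧸ Zc.subgroupOf T3) = p := by
        have h1 := (Zc.subgroupOf T3).card_eq_card_quotient_mul_card_subgroup
        rw [hL3c, Nat.card_congr (Subgroup.subgroupOfEquivOfLe (inf_le_right : Zc ≤ T3)).toEquiv,
          hc₂] at h1
        exact Nat.eq_of_mul_eq_mul_right (pow_pos hp.pos 2) (h1.symm.trans (pow_succ' p 2))
      obtain ⟨k, hk⟩ := mem_powers_of_prime_card (g := π ⟨d, hd⟩) (g' := π ⟨w, hw⟩) hq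
        fun e' => hd' ((QuotientGroup.eq_one_iff _).1 e' : (⟨d, hd⟩ : T3) ∈ Zc.subgroupOf T3).1
      refine ⟨w * (d ^ k)⁻¹, ?_, k, by rw [inv_mul_cancel_right]⟩
      have h2 : π (⟨w, hw⟩ * (⟨d, hd⟩ ^ k)⁻¹) = 1 := by
        rw [map_mul, map_inv, map_pow, show π ⟨d, hd⟩ ^ k = π ⟨w, hw⟩ from hk, mul_inv_cancel]
      exact (QuotientGroup.eq_one_iff (N := Zc.subgroupOf T3) _).1 h2
    obtain ⟨d, hddef⟩ : ∃ d, d = ⁅x₀, e⁆ := ⟨_, rfl⟩
    have hd : d ∈ T3 := hddef ▸ htriv e (hEN heE)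
    have hEgen : ∀ w ∈ E', ∃ h ∈ Zc, ∃ k : ℕ, w = h * e ^ k := by
      intro w hw
      haveI : (Zc.subgroupOf E').Normal := ⟨fun a ha b => by
        have : b * a * b⁻¹ = a := Subtype.ext (by
          push_cast; rw [hC.comm b b.2 a a.2, mul_inv_cancel_right])
        rwa [this]⟩
      set π := QuotientGroup.mk' (Zc.subgroupOf E')
      have hq : Nat.card (↥E' ⧸ Zc.subgroupOf E') = p := by
        have h1 := (Zc.subgroupOf E').card_eq_card_quotient_mul_card_subgroup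
        rw [hC.card, Nat.card_congr (Subgroup.subgroupOfEquivOfLe (inf_le_left : Zc ≤ E')).toEquiv,
          hc₂] at h1
        exact Nat.eq_of_mul_eq_mul_right (pow_pos hp.pos 2) (h1.symm.trans (pow_succ' p 2))
      obtain ⟨k, hk⟩ := mem_powers_of_prime_card (g := π ⟨e, heE⟩) (g' := π ⟨w, hw⟩) hq
        fun e' => heZ ((QuotientGroup.eq_one_iff _).1 e' : (⟨e, heE⟩ : E') ∈ Zc.subgroupOf E')
      refine ⟨w * (e ^ k)⁻¹, ?_, k, by rw [inv_mul_cancel_right]⟩
      have h2 : π (⟨w, hw⟩ * (⟨e, heE⟩ ^ k)⁻¹) = 1 := by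
        rw [map_mul, map_inv, map_pow, show π ⟨e, heE⟩ ^ k = π ⟨w, hw⟩ from hk, mul_inv_cancel]
      exact (QuotientGroup.eq_one_iff (N := Zc.subgroupOf E') _).1 h2
    have hdE : d ∉ E' := by
      intro hdE
      refine hx₀N (Subgroup.mem_normalizer_fintype (S := (E' : Set S)) fun w hw => ?_)
      obtain ⟨h, hh, k, rfl⟩ := hEgen w hw
      have e1 : x₀ * (h * e ^ k) * x₀⁻¹ = (x₀ * h * x₀⁻¹) * (d * e) ^ k := by
        rw [hddef, commutatorElement_def, inv_mul_cancel_right, conj_pow]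
        group
      show x₀ * (h * e ^ k) * x₀⁻¹ ∈ E'
      rw [e1]
      exact mul_mem (hZinv h hh).1 (pow_mem (mul_mem hdE heE) k)
    have hdfix : ⁅x₀, d⁆ ∈ Zc := by
      obtain ⟨h, hh, k, hk⟩ := hline hgL hgE d hd
      rw [hk]
      have e1 : ⁅x₀, h * g ^ k⁆ = (x₀ * h * x₀⁻¹) * ((x₀ * g * x₀⁻¹) ^ k * (g ^ k)⁻¹) * h⁻¹ := by
        rw [commutatorElement_def, conj_pow]
        group
      have e2 : (x₀ * g * x₀⁻¹) ^ k * (g ^ k)⁻¹ = ⁅x₀, g⁆ ^ k := by
        rw [show x₀ * g * x₀⁻¹ = ⁅x₀, g⁆ * g by simp [commutatorElement_def],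
          (show Commute ⁅x₀, g⁆ g from D.third_comm (hxg x₀).2 hgL).mul_pow, mul_inv_cancel_right]
      rw [e1, e2]
      exact mul_mem (mul_mem (hZinv h hh) (pow_mem (hxg x₀) k)) (inv_mem hh)
    have hiter : ∀ k : ℕ, ∃ h ∈ Zc, x₀ ^ k * e * (x₀ ^ k)⁻¹ = h * d ^ k * e := by
      intro k
      induction k with
      | zero => exact ⟨1, one_mem _, by simp⟩
      | succ k ih =>
        obtain ⟨h, hh, hk⟩ := ih
        refine ⟨(x₀ * h * x₀⁻¹) * ⁅x₀, d⁆ ^ k, mul_mem (hZinv h hh) (pow_mem hdfix k), ?_⟩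
        calc x₀ ^ (k + 1) * e * (x₀ ^ (k + 1))⁻¹ = x₀ * (x₀ ^ k * e * (x₀ ^ k)⁻¹) * x₀⁻¹ := by
              rw [pow_succ']; group
          _ = (x₀ * h * x₀⁻¹) * (x₀ * d * x₀⁻¹) ^ k * (x₀ * e * x₀⁻¹) := by
              rw [hk, conj_pow]; group
          _ = (x₀ * h * x₀⁻¹) * (⁅x₀, d⁆ * d) ^ k * (d * e) := by
              rw [show ⁅x₀, d⁆ * d = x₀ * d * x₀⁻¹ by simp [commutatorElement_def],
                show d * e = x₀ * e * x₀⁻¹ by rw [hddef]; simp [commutatorElement_def]]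
          _ = (x₀ * h * x₀⁻¹) * ⁅x₀, d⁆ ^ k * d ^ (k + 1) * e := by
              rw [(show Commute ⁅x₀, d⁆ d from D.third_comm hdfix.2 hd).mul_pow, pow_succ]
              simp [mul_assoc]
    obtain ⟨h, hh, k, hk⟩ := hline hd hdE _ hy
    obtain ⟨h', hh', hk'⟩ := hiter k
    set x := x₀ ^ k with hx
    have hxZ : ∀ h ∈ Zc, x * h * x⁻¹ ∈ Zc := by
      intro h hh
      rw [hx]
      clear hk' hk hx x
      induction k with
      | zero => simpa using hh
      | succ k ih =>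
        have := hZinv _ ih
        rw [pow_succ']
        simpa [mul_assoc] using this
    -- the image of the layer is conjugate to `E'`
    have hsurjZ : ∀ z ∈ Zc, ∃ z' ∈ Zc, x * z' * x⁻¹ = z := by
      intro z hz
      have hle : Zc.map (MulAut.conj x).toMonoidHom ≤ Zc := by
        rintro _ ⟨w, hw, rfl⟩
        exact hxZ w hw
      have heq := Subgroup.eq_of_le_of_card_ge hle
        (le_of_eq (Subgroup.card_map_of_injective (MulAut.conj x).injective).symm)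
      exact heq.ge hz
    have himg : ∀ w : ↥NQ, (w : S) ∈ T3 → x⁻¹ * (f w : S) * x ∈ E' := by
      have hconjE : x⁻¹ * (f y : S) * x ∈ E' := by
        obtain ⟨z', hz', hzz⟩ := hsurjZ (h * h'⁻¹) (mul_mem hh (inv_mem hh'))
        have e1 : (f y : S) = (h * h'⁻¹) * (x * e * x⁻¹) := by
          rw [hk']
          conv_lhs => rw [show (f y : S) = (y : S) * e by rw [he, mul_inv_cancel_left], hk]
          group
        rw [e1, ← hzz, show x⁻¹ * (x * z' * x⁻¹ * (x * e * x⁻¹)) * x = z' * e by group]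
        exact mul_mem hz'.1 heE
      intro w hw
      obtain ⟨h₁, hh₁, k₁, hk₁⟩ := hline hy hyE _ hw
      have hw' : w = ⟨h₁, hEN hh₁.1⟩ * y ^ k₁ := Subtype.ext (by push_cast; exact hk₁)
      have hfh : (f ⟨h₁, hEN hh₁.1⟩ : S) ∈ Zc := by
        convert (hmem _ _).1 (hαZ ⟨(h₁ : Ω), hh₁.1⟩ ((hmem _ _).2 hh₁)) using 1
        exact Subtype.ext (hfe ⟨h₁, hEN hh₁.1⟩ hh₁.1)
      obtain ⟨z', hz', hzz⟩ := hsurjZ _ hfh
      rw [hw', map_mul, map_pow]
      push_cast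
      rw [← hzz, show x⁻¹ * (x * z' * x⁻¹ * (f y : S) ^ k₁) * x =
        z' * (x⁻¹ * (f y : S) * x⁻¹⁻¹) ^ k₁ by rw [conj_pow]; group, inv_inv]
      exact mul_mem hz'.1 (pow_mem hconjE k₁)
    have hconj : F.IsConj (layer S (m - 3)) E := by
      have hP : layer S (m - 3) ≤ normalizerIn S E := by
        rintro _ ⟨w, hw, rfl⟩
        exact ⟨w.2, (hNiff w).1 (hLN hw)⟩
      have hc : conjHom (normalizerIn S E) ((x : Ω)⁻¹) ∈ F.Hom (normalizerIn S E) :=
        F.conj_mem inf_le_left (inv_mem x.2)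
      let φ : layer S (m - 3) →* Ω :=
        ((MulAut.conj ((x : Ω)⁻¹)).toMonoidHom.comp ψ).comp (Subgroup.inclusion hP)
      have hφ : φ ∈ F.Hom (layer S (m - 3)) := comp_mem' F (restr_mem F hP hψ) hc
        (fun w => hψN _) fun w => rfl
      refine ⟨φ, hφ, range_eq_of_image_le (F.injective_of_mem hφ) ?_ ?_⟩
      · rintro _ ⟨w, rfl⟩
        obtain ⟨v, hv, hvw⟩ := w.2
        have h1 := himg ⟨v, hLN hv⟩ hv
        have h2 : φ w = ((x⁻¹ * (f ⟨v, hLN hv⟩ : S) * x : S) : Ω) := by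
          have hw' : Subgroup.inclusion hP w = ⟨(v : Ω), ⟨v.2, (hNiff v).1 (hLN hv)⟩⟩ :=
            Subtype.ext hvw.symm
          show (x : Ω)⁻¹ * ψ (Subgroup.inclusion hP w) * ((x : Ω)⁻¹)⁻¹ = _
          rw [hw', inv_inv]
          rfl
        rw [h2]
        exact h1
      · rw [hcard, layer, Subgroup.card_map_of_injective S.subtype_injective, hL3c]
    have h1 := hE.2.1.2 _ (isConj_symm hconj)
    rw [show normalizerIn S (layer S (m - 3)) = S from inf_eq_left.2 (le_normalizer_layer _),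
      D.ord] at h1
    have h2 : Nat.card (normalizerIn S E) = p ^ 4 := by
      rw [← hN4, ← Subgroup.card_map_of_injective (K := NQ) S.subtype_injective]
      congr 2
      ext w
      exact ⟨fun ⟨h1, h2⟩ => ⟨⟨w, h1⟩, (hNiff _).2 h2, rfl⟩,
        fun ⟨v, hv, hvw⟩ => hvw ▸ ⟨v.2, (hNiff v).1 hv⟩⟩
    rw [h2, Nat.pow_le_pow_iff_right hp.one_lt] at h1
    omega
  -- the restriction and its `p`-th power
  have hP : layer S (m - 3) ≤ normalizerIn S E := by
    rintro _ ⟨w, hw, rfl⟩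
    exact ⟨w.2, (hNiff w).1 (hLN hw)⟩
  haveI : Finite (layer S (m - 3)) := finite_of_le ‹_› (layer_le _)
  have hφ : restr hP ψ ∈ F.Hom (layer S (m - 3)) := restr_mem F hP hψ
  have hφr : (restr hP ψ).range = layer S (m - 3) := by
    refine range_eq_of_image_le (F.injective_of_mem hφ) ?_ le_rfl
    rintro _ ⟨w, rfl⟩
    obtain ⟨v, hv, hvw⟩ := w.2
    have hw' : Subgroup.inclusion hP w = ⟨(v : Ω), ⟨v.2, (hNiff v).1 (hLN hv)⟩⟩ :=
      Subtype.ext hvw.symm
    rw [restr_apply, hw']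
    exact ⟨(f ⟨v, hLN hv⟩ : S), hkeep _ hv, rfl⟩
  set G := layer S (m - 3) with hG
  set α₃ : MulAut ↥G := toIso F hφ hφr with hα₃
  have hα₃m : α₃ ∈ F.autGroup (layer S (m - 3)) := toIso_mem_autGroup F hφ hφr
  have hα₃v : ∀ y, ((α₃ y : layer S (m - 3)) : Ω) = ψ (Subgroup.inclusion hP y) := fun y =>
    toIso_coe F hφ hφr y
  -- the hyperplane inside the layer
  let κ : ↥G → ↥S := fun y => ⟨y, layer_le _ y.2⟩
  have hκ : ∀ y, κ y ∈ T3 := fun y => (mem_layer (x := κ y)).1 y.2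
  let W : Subgroup ↥G := E.subgroupOf G
  have hW : ∀ y, y ∈ W ↔ κ y ∈ Zc := fun y => ⟨fun h => ⟨h, hκ y⟩, fun h => h.1⟩
  let toE : ↥W →* E := (G.subtype.comp W.subtype).codRestrict E fun y => y.2
  have htoE : ∀ w : ↥W, toE w ∈ (Zc.map S.subtype).subgroupOf E := fun w =>
    (hmem Zc _).2 ((hW w.1).1 w.2)
  have hαW : ∀ w : ↥W, ((α₃ w.1 : G) : Ω) = (α : MulAut E) (toE w) := fun w => by
    rw [hα₃v]
    exact hψe (toE w)
  have hdW : ∀ y, y⁻¹ * α₃ y ∈ W := by
    intro y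
    rw [hW]
    refine ⟨?_, hκ _⟩
    have h := hfy ⟨κ y, hLN (hκ y)⟩
    suffices e : κ (y⁻¹ * α₃ y) = (κ y)⁻¹ * (f ⟨κ y, hLN (hκ y)⟩ : S) by
      show κ (y⁻¹ * α₃ y) ∈ E'
      rw [e]
      exact h
    refine Subtype.ext ?_
    show (y : Ω)⁻¹ * ((α₃ y : G) : Ω) = _
    rw [hα₃v]
    rfl
  have hpres : ∀ w ∈ W, α₃ w ∈ W := fun w hw => by
    have := mul_mem hw (hdW w)
    rwa [mul_inv_cancel_left] at this
  let IG : Subgroup ↥G := (I.map E.subtype).subgroupOf G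
  have hIG : ∀ w : ↥W, toE w ∈ I ↔ w.1 ∈ IG := fun w => by
    show _ ↔ ((w.1 : G) : Ω) ∈ I.map E.subtype
    exact (Subgroup.mem_map_iff_mem (f := E.subtype) (x := toE w) E.subtype_injective).symm
  have hIW : IG ≤ W := fun y hy => by
    obtain ⟨i, _, hiy⟩ := hy
    show (y : Ω) ∈ E
    rw [show (y : Ω) = (i : Ω) from hiy.symm]
    exact i.2
  have hIle : I.map E.subtype ≤ G := by
    rintro _ ⟨i, hi, rfl⟩
    exact ⟨⟨i, hES i.2⟩, ((hmem Zc i).1 (hIH hi)).2, rfl⟩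
  have hWα : ∀ w (hw : w ∈ W), α₃ (α₃ w) = w ∧ w⁻¹ * α₃ w ∈ IG ∧
      (w ∈ IG → α₃ w = w⁻¹) := by
    intro w hw
    refine ⟨?_, ?_, fun hwI => ?_⟩
    · refine Subtype.ext ?_
      rw [hαW ⟨α₃ w, hpres w hw⟩, show toE ⟨α₃ w, hpres w hw⟩ = (α : MulAut E) (toE ⟨w, hw⟩) from
        Subtype.ext (hαW ⟨w, hw⟩), ← MulAut.mul_apply, ← Subgroup.coe_mul, ← sq, hα2]
      rfl
    · have h1 := hαfix (toE ⟨w, hw⟩) (hfixu _ (htoE _))
      have h2 : (toE ⟨w, hw⟩)⁻¹ * (α : MulAut E) (toE ⟨w, hw⟩) =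
          toE ⟨w⁻¹ * α₃ w, hdW w⟩ := Subtype.ext (by
        push_cast
        rw [← hαW ⟨w, hw⟩]
        rfl)
      rw [h2] at h1
      exact (hIG ⟨_, hdW w⟩).1 h1
    · refine Subtype.ext ?_
      rw [hαW ⟨w, hw⟩, hαI _ ((hIG ⟨w, hw⟩).2 hwI)]
      rfl
  set c2 := α₃ * α₃ with hc2
  have hc2W : ∀ w ∈ W, c2 w = w := fun w hw => (hWα w hw).1
  have hc2d : ∀ y, y⁻¹ * c2 y ∈ W := by
    intro y
    have h1 := mul_mem (hdW y) (hdW (α₃ y))
    simpa [hc2, mul_assoc] using h1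
  have hexpW : ∀ w ∈ W, w ^ p = 1 := fun w hw =>
    Subtype.ext (by push_cast; exact hel.2 _ hw)
  have hc2pow : ∀ (y : G) (n : ℕ), (c2 ^ n) y = y * (y⁻¹ * c2 y) ^ n := by
    intro y n
    induction n with
    | zero => simp
    | succ n ih =>
      rw [pow_succ', MulAut.mul_apply, ih, map_mul, map_pow, hc2W _ (hc2d y), pow_succ',
        ← mul_assoc y, mul_inv_cancel_left]
  set γ := α₃ ^ p with hγ
  have hγ2 : γ ^ 2 = 1 := by
    refine MulEquiv.ext fun y => ?_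
    rw [hγ, ← pow_mul, mul_comm, pow_mul, sq, ← hc2, hc2pow, hexpW _ (hc2d y), mul_one]
    rfl
  obtain ⟨r, hr⟩ := hp.odd_of_ne_two hp2
  have hγapp : ∀ y, γ y = α₃ y * ((α₃ y)⁻¹ * c2 (α₃ y)) ^ r := fun y => by
    rw [hγ, hr, pow_succ, pow_mul, sq, ← hc2, MulAut.mul_apply, hc2pow]
  have hγW : ∀ w ∈ W, γ w = α₃ w := fun w hw => by
    rw [hγapp, hc2W _ (hpres w hw), inv_mul_cancel, one_pow, mul_one]
  have hγd : ∀ y, y⁻¹ * γ y ∈ W := fun y => by
    rw [hγapp, ← mul_assoc]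
    exact mul_mem (hdW y) (pow_mem (hc2d _) r)
  refine ⟨γ, pow_mem hα₃m p, IG, hγ2, ?_, ?_, ?_, fun i hi => ?_, ?_⟩
  · rw [Nat.card_congr (Subgroup.subgroupOfEquivOfLe hIle).toEquiv,
      Subgroup.card_map_of_injective E.subtype_injective, hIc]
  · intro y hy
    obtain ⟨i, hi, hiy⟩ := hy
    obtain ⟨e, he⟩ := hIgen i hi
    refine ⟨⟨i, hES i.2⟩, ?_, hiy⟩
    rw [he]
    exact hgd _ e.2
  · intro y
    set c := y⁻¹ * γ y with hc
    have hcW : c ∈ W := hγd y
    have h1 : c * γ c = 1 := by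
      have h2 : γ (γ y) = y := DFunLike.congr_fun ((sq γ).symm.trans hγ2) y
      rw [show γ y = y * c by rw [hc, mul_inv_cancel_left], map_mul,
        show γ y = y * c by rw [hc, mul_inv_cancel_left], mul_assoc] at h2
      exact mul_eq_left.1 h2
    obtain ⟨-, h3, -⟩ := hWα c hcW
    rw [← hγW c hcW, ← inv_eq_of_mul_eq_one_right h1, ← mul_inv_rev, ← sq, inv_mem_iff] at h3
    have h4 := pow_mem h3 (r + 1)
    rwa [← pow_mul, show 2 * (r + 1) = p + 1 by omega, pow_succ, hexpW c hcW, one_mul] at h4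
  · rw [hγW i (hIW hi)]
    exact (hWα i (hIW hi)).2.2 hi
  · intro hnot
    obtain ⟨y, hy, hy'⟩ := SetLike.not_le_iff_exists.1 hnot
    obtain ⟨i, hi, hiy⟩ := hy
    obtain ⟨e, he⟩ := hIgen i hi
    refine hgC ⟨⟨e, hES e.2⟩, e.2, fun h => hy' ⟨⟨i, hES i.2⟩, he ▸ h, hiy⟩⟩

end Cfsg.Agent.MCE
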