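import Mathlib
import Cfsg.Agent.MCE.Centric

/-!
No automorphism of a group of maximal class fixes the fourth layer from the bottom and acts on the
two lowest layers by opposite signs.
-/

set_option autoImplicit false

open Subgroup
open scoped commutatorElement

namespace Cfsg.Agent.MCE

open MaxClassP (lcs twoStep)

variable {Q : Type*} [Group Q] [Finite Q] {p : ℕ} [Fact p.Prime] {m : ℕ}

omit [Finite Q] in
theorem map_mem_lcs (ψ : MulAut Q) {y : Q} {i : ℕ} (h : y ∈ lcs Q i) : ψ y ∈ lcs Q i := by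
  have e : (lcs Q i).map ψ.toMonoidHom = lcs Q i := by
    rw [Subgroup.map_lowerCentralSeries, map_top_of_surjective ψ.toMonoidHom ψ.surjective]
  rw [← e]
  exact mem_map_of_mem _ h

theorem map_mem_twoStep (ψ : MulAut Q) {x : Q} {i : ℕ} (h : x ∈ twoStep Q i) :
    ψ x ∈ twoStep Q i := by
  refine mem_twoStep'.2 fun y hy => ?_
  have hy' : ψ⁻¹ y ∈ lcs Q i := map_mem_lcs ψ⁻¹ hy
  have := map_mem_lcs ψ (mem_twoStep'.1 h _ hy')
  rwa [map_commutatorElement, MulAut.apply_inv_self] at this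

/-- The bilinear behaviour of commutators on a layer. -/
theorem bracket_zpow {x x' y y' : Q} {j : ℕ} {b c : ℤ} (hx : q 1 x' = q 1 x ^ b) (hy : y ∈ lcs Q j)
    (hy' : y' ∈ lcs Q j) (hyc : q (j + 1) y' = q (j + 1) y ^ c) :
    q (j + 2) ⁅x', y'⁆ = q (j + 2) ⁅x, y⁆ ^ (c * b) := by
  have hl : (x ^ b)⁻¹ * x' ∈ lcs Q 1 := by
    rw [← q_eq_one, map_mul, map_inv, map_zpow, hx, inv_mul_cancel]
  have h1 : leftCom hy' ((x ^ b)⁻¹ * x') = 1 := q_eq_one.2 (comm_mem_lcs hl hy' (by omega))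
  rw [map_mul, map_inv, inv_mul_eq_one] at h1
  have h2 : comHom x j ⟨y', hy'⟩ = comHom x j (⟨y, hy⟩ ^ c) :=
    comHom_congr hy' (zpow_mem hy _) (by rw [map_zpow]; exact hyc)
  rw [map_zpow] at h2
  calc q (j + 2) ⁅x', y'⁆ = leftCom hy' (x ^ b) := h1.symm
    _ = q (j + 2) ⁅x, y'⁆ ^ b := map_zpow _ _ _
    _ = (q (j + 2) ⁅x, y⁆ ^ c) ^ b := congrArg (· ^ b) h2
    _ = q (j + 2) ⁅x, y⁆ ^ (c * b) := (zpow_mul _ _ _).symm

namespace MaxData

variable (D : MaxData p m Q)
include D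

theorem exp_eq {X : Q} {j : ℕ} (hj : 1 ≤ j) (hjm : j < m) (hX : X ∈ lcs Q j)
    (hX' : X ∉ lcs Q (j + 1)) {u v : ℤ} (h : q (j + 1) X ^ u = q (j + 1) X ^ v) :
    (u : ZMod p) = v := by
  have hp := (Fact.out : p.Prime)
  have hcard : Nat.card ((lcs Q j).map (q (j + 1))) = p := by
    rw [PSolv.card_map_mk_eq_relIndex]
    have h1 := relIndex_mul_relIndex ⊥ (lcs Q (j + 1)) (lcs Q j) bot_le
      (Subgroup.lowerCentralSeries_antitone _ (Nat.le_succ j))
    rw [relIndex_bot_left, relIndex_bot_left, D.card j hj hjm.le,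
      D.card (j + 1) (by omega) (by omega), show m - j = m - (j + 1) + 1 by omega, pow_succ] at h1
    exact Nat.eq_of_mul_eq_mul_left (pow_pos hp.pos _) h1
  have hmem : q (j + 1) X ∈ (lcs Q j).map (q (j + 1)) := mem_map_of_mem _ hX
  have hord : orderOf (q (j + 1) X) = p := by
    refine ((Nat.dvd_prime hp).1 ?_).resolve_left fun e => hX' (q_eq_one.1 (orderOf_eq_one_iff.1 e))
    rw [← Subgroup.orderOf_mk _ hmem, ← hcard]
    exact orderOf_dvd_natCard _
  rw [zpow_eq_zpow_iff_modEq, hord] at h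
  exact (ZMod.intCast_eq_intCast_iff u v p).2 h

theorem exists_exp {H : Subgroup Q} (hH : lcs Q 1 ≤ H) (hH' : H ≠ ⊤) {x y : Q} (hx : x ∈ H)
    (hx' : x ∉ lcs Q 1) (hy : y ∈ H) : ∃ b : ℤ, q 1 y = q 1 x ^ b := by
  have hm := D.hm
  set M := lcs Q 1 ⊔ zpowers x
  have hMH : M ≤ H := sup_le hH (zpowers_le.2 hx)
  have hM : H = M := eq_of_mem D.ord D.card (by omega) hH le_sup_left hH'
    (fun e => hH' (top_unique (e ▸ hMH))) hx (mem_sup_right (mem_zpowers x)) hx'
  rw [hM] at hy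
  obtain ⟨l, hl, z, hz, rfl⟩ := Subgroup.mem_sup_of_normal_left.1 hy
  obtain ⟨b, rfl⟩ := mem_zpowers_iff.1 hz
  exact ⟨b, by rw [map_mul, q_eq_one.2 hl, one_mul, map_zpow]⟩

/-- The weights on the bottom layers are incompatible. -/
theorem false_of_weights (hp5 : 5 ≤ p) (ψ : MulAut Q) {a : ℤ} (ha : a = 1 ∨ a = -1)
    (hw : ∀ y ∈ lcs Q (m - 3), y⁻¹ * ψ y ∈ lcs Q (m - 2))
    (hmu : ∀ y ∈ lcs Q (m - 2), q (m - 1) (ψ y) = q (m - 1) y ^ a)
    (hz : ∀ z ∈ lcs Q (m - 1), ψ z = z ^ (-a))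
    (hC : twoStep Q (m - 2) = twoStep Q 1 → a = 1) : False := by
  have hp := (Fact.out : p.Prime)
  have hm := D.hm
  have hneC : twoStep Q (m - 2) ≠ ⊤ := MaxClassP.twoStep_ne_top D.card (by omega)
  have hneT : twoStep Q 1 ≠ ⊤ := MaxClassP.twoStep_ne_top D.card (by omega)
  have hTi : ∀ i, 1 ≤ i → i + 3 ≤ m → twoStep Q i = twoStep Q 1 := twoStep_eq D.ord D.card hm
  have hpne : ∀ k : ℕ, 0 < k → k < p → (k : ZMod p) ≠ 0 := fun k hk hk' e =>
    absurd (Nat.le_of_dvd hk ((ZMod.natCast_eq_zero_iff k p).1 e)) (by omega)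
  have h2ne : (2 : ZMod p) ≠ 0 := by exact_mod_cast hpne 2 (by omega) (by omega)
  have hw' : ∀ y ∈ lcs Q (m - 3), q (m - 3 + 1) (ψ y) = q (m - 3 + 1) y ^ (1 : ℤ) := by
    intro y hy
    rw [zpow_one, eq_comm, ← inv_mul_eq_one, ← map_inv, ← map_mul, q_eq_one,
      show m - 3 + 1 = m - 2 by omega]
    exact hw y hy
  by_cases hexc : twoStep Q (m - 2) = twoStep Q 1
  · -- one two-step centraliser
    obtain rfl := hC hexc
    obtain ⟨x, hx⟩ : ∃ x, x ∉ twoStep Q 1 := by
      by_contra h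
      push Not at h
      exact hneT (top_unique fun y _ => h y)
    obtain ⟨w, hwm, hwm'⟩ := MaxClassP.lcs_succ_lt D.card (j := m - 3) (by omega) (by omega)
    have hX := comm_not_mem D.card (by omega) (by omega) hwm hwm'
      (show x ∉ twoStep Q (m - 3) by rw [hTi _ (by omega) (by omega)]; exact hx)
    have hXm : ⁅x, w⁆ ∈ lcs Q (m - 3 + 1) := comm_mem_lcs (mem_lcs_zero x) hwm (by omega)
    have hxL : x ∉ lcs Q 1 := fun h => hx (lcs_one_le_twoStep 1 h)
    -- the exponent of the image of `x` modulo the two-step centraliser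
    obtain ⟨t, ht, ht'⟩ := index_twoStep_le D.ord D.card (i := 1) le_rfl (by omega)
    have htop : twoStep Q 1 ⊔ zpowers x = ⊤ := by
      by_contra hne
      have := eq_of_mem D.ord D.card (by omega) (le_sup_of_le_left (lcs_one_le_twoStep 1))
        (lcs_one_le_twoStep 1) hne hneT (mem_sup_left ht) ht ht'
      exact hx (this ▸ mem_sup_right (mem_zpowers x))
    have hψx : ψ x ∈ twoStep Q 1 ⊔ zpowers x := by rw [htop]; exact mem_top _
    have : (twoStep Q 1).Normal := ⟨fun y hy g => by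
      have := mul_mem (lcs_one_le_twoStep 1 (comm_mem_lcs (N := 1) (mem_lcs_zero g)
        (mem_lcs_zero y) (by omega))) hy
      simpa [commutatorElement_def, mul_assoc] using this⟩
    obtain ⟨l, hl, z, hz', hlz⟩ := Subgroup.mem_sup_of_normal_left.1 hψx
    obtain ⟨b, rfl⟩ := mem_zpowers_iff.1 hz'
    have hkill : ∀ {y : Q} {j : ℕ}, 1 ≤ j → j + 2 ≤ m → y ∈ lcs Q j →
        q (j + 2) ⁅ψ x, y⁆ = q (j + 2) ⁅x, y⁆ ^ b := by
      intro y j hj hjm hy
      have hlT : l ∈ twoStep Q j := by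
        rcases (by omega : j = m - 2 ∨ j + 3 ≤ m) with h | h
        · rw [h, hexc]; exact hl
        · rw [hTi j hj h]; exact hl
      show leftCom hy (ψ x) = leftCom hy x ^ b
      rw [← hlz, map_mul, map_zpow,
        show leftCom hy l = 1 from q_eq_one.2 (mem_twoStep'.1 hlT y hy), one_mul]
    have hψw : ψ w ∈ lcs Q (m - 3) := map_mem_lcs ψ hwm
    have e1 : q (m - 3 + 2) (ψ ⁅x, w⁆) = q (m - 3 + 2) ⁅x, w⁆ ^ b := by
      have h2 : comHom x (m - 3) ⟨ψ w, hψw⟩ = comHom x (m - 3) ⟨w, hwm⟩ :=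
        comHom_congr hψw hwm (by rw [hw' w hwm, zpow_one])
      rw [map_commutatorElement, hkill (by omega) (by omega) hψw]
      exact congrArg (· ^ b) h2
    have e2 : q (m - 3 + 2) (ψ ⁅x, w⁆) = q (m - 3 + 2) ⁅x, w⁆ ^ (1 : ℤ) := by
      rw [show m - 3 + 2 = m - 1 by omega]
      exact hmu _ (by rwa [show m - 2 = m - 3 + 1 by omega])
    have hb : (b : ZMod p) = 1 := by
      have := D.exp_eq (j := m - 3 + 1) (by omega) (by omega) hXm hX (e1.symm.trans e2)
      simpa using this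
    have hY := comm_not_mem (j := m - 3 + 1) D.card (by omega) (by omega) hXm hX
      (show x ∉ twoStep Q (m - 3 + 1) by rw [show m - 3 + 1 = m - 2 by omega, hexc]; exact hx)
    have hYm : ⁅x, ⁅x, w⁆⁆ ∈ lcs Q (m - 3 + 1 + 1) :=
      comm_mem_lcs (mem_lcs_zero x) hXm (by omega)
    have hψX : ψ ⁅x, w⁆ ∈ lcs Q (m - 3 + 1) := map_mem_lcs ψ hXm
    have e3 : q (m - 3 + 1 + 2) (ψ ⁅x, ⁅x, w⁆⁆) = q (m - 3 + 1 + 2) ⁅x, ⁅x, w⁆⁆ ^ b := by
      have h2 : comHom x (m - 3 + 1) ⟨ψ ⁅x, w⁆, hψX⟩ = comHom x (m - 3 + 1) ⟨⁅x, w⁆, hXm⟩ :=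
        comHom_congr hψX hXm (by rw [show m - 3 + 1 + 1 = m - 3 + 2 by omega, e2, zpow_one])
      rw [map_commutatorElement ψ x, hkill (by omega) (by omega) hψX]
      exact congrArg (· ^ b) h2
    rw [hz _ (by rwa [show m - 1 = m - 3 + 1 + 1 by omega]), map_zpow] at e3
    have := D.exp_eq (j := m - 3 + 1 + 1) (by omega) (by omega) hYm hY e3
    rw [hb] at this
    push_cast at this
    exact h2ne (by linear_combination -this)
  · obtain ⟨k, hk⟩ := odd_of_exceptional D.ord D.card hm hexc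
    obtain ⟨t, ht, ht'⟩ := index_twoStep_le D.ord D.card (i := 1) le_rfl (by omega)
    obtain ⟨s, hs, hs'⟩ := index_twoStep_le D.ord D.card (i := m - 2) (by omega) (by omega)
    have hsT : s ∉ twoStep Q 1 := fun h => hexc (eq_of_mem D.ord D.card (by omega)
      (lcs_one_le_twoStep _) (lcs_one_le_twoStep 1) hneC hneT hs h hs')
    have htC : t ∉ twoStep Q (m - 2) := fun h => hexc (eq_of_mem D.ord D.card (by omega)
      (lcs_one_le_twoStep _) (lcs_one_le_twoStep 1) hneC hneT h ht ht')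
    let g : ℕ → Q := fun n => Nat.rec t (fun _ y => ⁅s, y⁆) n
    have hg : ∀ j, g (j + 1) = ⁅s, g j⁆ := fun _ => rfl
    have hnm := chain_not_mem D.ord D.card (by omega) hg rfl (lcs_one_le_twoStep 1) hneT ht ht'
      hsT (b := m - 2) (by omega) (fun i hi hik => by rw [hTi i hi (by omega)]; exact hsT)
    obtain ⟨c, hc⟩ := D.exists_exp (lcs_one_le_twoStep 1) hneT ht ht' (map_mem_twoStep ψ ht)
    obtain ⟨b, hb⟩ := D.exists_exp (lcs_one_le_twoStep _) hneC hs hs' (map_mem_twoStep ψ hs)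
    have hchain : ∀ j, q (j + 1) (ψ (g j)) = q (j + 1) (g j) ^ (c * b ^ j) := by
      intro j
      induction j with
      | zero => rw [pow_zero, mul_one]; exact hc
      | succ j ih =>
        rw [hg, map_commutatorElement, bracket_zpow hb (chain_mem hg j)
          (map_mem_lcs ψ (chain_mem hg j)) ih, pow_succ, mul_assoc]
    have e1 : ((c * b ^ (m - 3) : ℤ) : ZMod p) = 1 := by
      have := D.exp_eq (j := m - 3) (by omega) (by omega) (chain_mem hg _) (hnm _ (by omega))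
        ((hchain (m - 3)).symm.trans (hw' _ (chain_mem hg _)))
      simpa using this
    have e2 : ((c * b ^ (m - 2) : ℤ) : ZMod p) = a := by
      refine D.exp_eq (j := m - 2) (by omega) (by omega) (chain_mem hg _) (hnm _ le_rfl)
        ((hchain (m - 2)).symm.trans ?_)
      rw [show m - 2 + 1 = m - 1 by omega]
      exact hmu _ (chain_mem hg _)
    have hbp : (b : ZMod p) = a := by
      rw [show m - 2 = m - 3 + 1 by omega] at e2
      push_cast at e1 e2 ⊢
      rw [pow_succ, ← mul_assoc, e1, one_mul] at e2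
      exact e2
    have hY := comm_not_mem (j := m - 2) D.card (by omega) (by omega) (chain_mem hg _)
      (hnm _ le_rfl) htC
    have hYm : ⁅t, g (m - 2)⁆ ∈ lcs Q (m - 2 + 1) :=
      comm_mem_lcs (mem_lcs_zero t) (chain_mem hg _) (by omega)
    have e3 := bracket_zpow (j := m - 2) hc (chain_mem hg (m - 2))
      (map_mem_lcs ψ (chain_mem hg (m - 2))) (hchain (m - 2))
    rw [← map_commutatorElement, hz _ (by rwa [show m - 1 = m - 2 + 1 by omega]), map_zpow] at e3
    have e4 := D.exp_eq (j := m - 2 + 1) (by omega) (by omega) hYm hY e3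
    have hcp : (c : ZMod p) = -1 := by
      push_cast at e2 e4
      rw [e2] at e4
      rcases ha with rfl | rfl <;> push_cast at e4
      · linear_combination -e4
      · linear_combination e4
    push_cast at e1
    rw [hbp, hcp, show m - 3 = 2 * (k - 1) by omega, pow_mul] at e1
    rcases ha with rfl | rfl <;> push_cast at e1 <;> norm_num at e1 <;>
      exact h2ne (by linear_combination -e1)

end MaxData

end Cfsg.Agent.MCE
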