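import Mathlib
import Cfsg.Agent.MCE.Normalizer
import Cfsg.Agent.MCE.FlagStab
import Cfsg.Agent.MCE.Weights
import Cfsg.Agent.FusionCrit.Centric

/-!
A system on a group of maximal class of order at least `p ^ 5` has no abelian essential subgroup of
order `p ^ 3` when `p ≥ 5`.
-/

set_option autoImplicit false

open Cfsg Cfsg.FusionSystem Cfsg.Agent.FusionSys
open scoped commutatorElement

namespace Cfsg.Agent.MCE

open MaxClassP (lcs twoStep)

variable {Ω : Type*} [Group Ω] {S : Subgroup Ω} [Finite S] {p : ℕ} [Fact p.Prime] {m : ℕ}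

/-- An automorphism preserving the bottom flag extends to `S`. -/
theorem exists_extension (hS : IsPGroup p S) (D : MaxData p m ↥S) {F : FusionSystem S}
    (hF : F.IsSaturated p) {β : MulAut ↥(layer S (m - 3))}
    (hβ : β ∈ F.autGroup (layer S (m - 3)))
    (hA : β ∈ modStab ((layer S (m - 2)).subgroupOf (layer S (m - 3))))
    (hB : ∀ y ∈ (layer S (m - 1)).subgroupOf (layer S (m - 3)),
      β y ∈ (layer S (m - 1)).subgroupOf (layer S (m - 3))) :
    ∃ ψ : MulAut ↥S, ∀ y : ↥(layer S (m - 3)),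
      ((ψ ⟨(y : Ω), layer_le _ y.2⟩ : S) : Ω) = β y := by
  have hp := (Fact.out : p.Prime)
  have hm := D.hm
  have hGS : (layer S (m - 3)) ≤ S := layer_le _
  haveI : Finite (layer S (m - 3)) := finite_of_le ‹_› hGS
  have hGn : S ≤ Subgroup.normalizer ((layer S (m - 3)) : Set Ω) := le_normalizer_layer _
  have hfn : F.IsFullyNormalized (layer S (m - 3)) := FusionCrit.isFullyNormalized_of_normal F hGS hGn
  obtain ⟨-, R, hR⟩ := (saturated_fullyNormalized hS hF hfn).2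
  have hAG : autInducedBy S (layer S (m - 3)) ≤ F.autGroup (layer S (m - 3)) := autInducedBy_le_autGroup F hGS
  have hstep : ∀ (i : ℕ) (g : Ω) (hg : g ∈ S) (y : (layer S (m - 3))) (α : MulAut (layer S (m - 3))),
      ((α y : (layer S (m - 3))) : Ω) = g * y * g⁻¹ → (y : Ω) ∈ layer S i →
      ((y⁻¹ * α y : (layer S (m - 3))) : Ω) ∈ layer S (i + 1) := by
    intro i g hg y α hα hy
    obtain ⟨v, hv, hvy⟩ := hy
    have h1 : ((y⁻¹ * α y : (layer S (m - 3))) : Ω) = ((⁅v⁻¹, (⟨g, hg⟩ : S)⁆ : S) : Ω) := by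
      push_cast
      rw [hα, ← show (v : Ω) = y from hvy]
      simp [commutatorElement_def, mul_assoc]
    rw [h1, mem_layer]
    exact comm_mem_lcs (inv_mem hv) (mem_lcs_zero _) (by omega)
  have hind : autInducedBy S (layer S (m - 3)) ≤ flagStab ((layer S (m - 2)).subgroupOf (layer S (m - 3))) ((layer S (m - 1)).subgroupOf (layer S (m - 3))) := by
    intro α hα
    obtain ⟨g, hg, hgα⟩ := mem_autInducedBy.1 hα
    refine mem_flagStab.2 ⟨fun y => ?_, fun y hy => ?_, fun y hy => ?_⟩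
    · have := hstep (m - 3) g hg y α (hgα y) y.2
      rwa [show m - 3 + 1 = m - 2 by omega] at this
    · have := hstep (m - 2) g hg y α (hgα y) hy
      rwa [show m - 2 + 1 = m - 1 by omega] at this
    · have h1 := hstep (m - 1) g hg y α (hgα y) hy
      rw [show m - 1 + 1 = m by omega] at h1
      obtain ⟨v, hv, hvy⟩ := h1
      rw [D.bot] at hv
      rw [show v = 1 from Subgroup.mem_bot.1 hv, map_one] at hvy
      exact (inv_mul_eq_one.1 (Subtype.ext hvy.symm)).symm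
  have hpw : ∀ j, 1 ≤ j → j < m → ∀ d : (layer S (m - 3)), (d : Ω) ∈ layer S j →
      ((d ^ p : (layer S (m - 3))) : Ω) ∈ layer S (j + 1) := by
    intro j hj hjm d hd
    obtain ⟨v, hv, hvd⟩ := hd
    push_cast
    rw [← show (v : Ω) = d from hvd, ← SubgroupClass.coe_pow, mem_layer, ← q_eq_one, map_pow]
    have hc : Nat.card ((lcs ↥S j).map (q (j + 1))) = p := by
      rw [PSolv.card_map_mk_eq_relIndex]
      have h1 := Subgroup.relIndex_mul_relIndex ⊥ (lcs ↥S (j + 1)) (lcs ↥S j) bot_le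
        (Subgroup.lowerCentralSeries_antitone _ (Nat.le_succ j))
      rw [Subgroup.relIndex_bot_left, Subgroup.relIndex_bot_left, D.card j hj hjm.le,
        D.card (j + 1) (by omega) (by omega), show m - j = m - (j + 1) + 1 by omega, pow_succ] at h1
      exact Nat.eq_of_mul_eq_mul_left (pow_pos hp.pos _) h1
    have := pow_card_eq_one' (x := (⟨q (j + 1) v, Subgroup.mem_map_of_mem _ hv⟩ :
      (lcs ↥S j).map (q (j + 1))))
    rw [hc] at this
    exact congrArg Subtype.val this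
  have hpA : ∀ d ∈ ((layer S (m - 2)).subgroupOf (layer S (m - 3))), d ^ p ∈ ((layer S (m - 1)).subgroupOf (layer S (m - 3))) := fun d hd => by
    have := hpw (m - 2) (by omega) (by omega) d hd
    rwa [show m - 2 + 1 = m - 1 by omega] at this
  have hpB : ∀ d ∈ ((layer S (m - 1)).subgroupOf (layer S (m - 3))), d ^ p = 1 := fun d hd => by
    have h1 := hpw (m - 1) (by omega) (by omega) d hd
    rw [show m - 1 + 1 = m by omega] at h1
    obtain ⟨v, hv, hvy⟩ := h1
    rw [D.bot] at hv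
    rw [show v = 1 from Subgroup.mem_bot.1 hv, map_one] at hvy
    exact Subtype.ext hvy.symm
  have hBn : ((layer S (m - 1)).subgroupOf (layer S (m - 3))).Normal := ⟨fun a ha b => by
    obtain ⟨v, hv, hvy⟩ := ha
    show ((b * a * b⁻¹ : (layer S (m - 3))) : Ω) ∈ layer S (m - 1)
    push_cast
    rw [← show (v : Ω) = a from hvy]
    have h1 := D.central_last hv ⟨b, hGS b.2⟩
    have h2 : (b : Ω) * v = v * b := (congrArg Subtype.val h1).symm
    rw [h2, mul_inv_cancel_right]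
    exact mem_layer.2 hv⟩
  have hBA : ((layer S (m - 1)).subgroupOf (layer S (m - 3))) ≤ ((layer S (m - 2)).subgroupOf (layer S (m - 3))) := Subgroup.comap_mono (Subgroup.map_mono
    (Subgroup.lowerCentralSeries_antitone _ (by omega)))
  have hP : IsPGroup p ((flagStab ((layer S (m - 2)).subgroupOf (layer S (m - 3))) ((layer S (m - 1)).subgroupOf (layer S (m - 3)))).subgroupOf (F.autGroup (layer S (m - 3)))) := fun a =>
    ⟨2, Subtype.ext (Subtype.ext (by
      push_cast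
      exact flagStab_pow p hpA hpB hBA hBn a.2))⟩
  have heq := R.3 hP (by rw [hR]; exact Subgroup.comap_mono hind)
  have hAiff : ∀ y, β y ∈ ((layer S (m - 2)).subgroupOf (layer S (m - 3))) ↔ y ∈ ((layer S (m - 2)).subgroupOf (layer S (m - 3))) := fun y => ⟨fun h => by
    have := mul_mem h (inv_mem (hA y))
    rwa [mul_inv_rev, inv_inv, mul_inv_cancel_left] at this, mem_of_modStab hA⟩
  have hBiff : ∀ y, β y ∈ ((layer S (m - 1)).subgroupOf (layer S (m - 3))) ↔ y ∈ ((layer S (m - 1)).subgroupOf (layer S (m - 3))) := fun y => ⟨fun h => by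
    have hle : ((layer S (m - 1)).subgroupOf (layer S (m - 3))).map β.toMonoidHom ≤ ((layer S (m - 1)).subgroupOf (layer S (m - 3))) := by
      rintro _ ⟨w, hw, rfl⟩
      exact hB w hw
    obtain ⟨w, hw, hwy⟩ := (Subgroup.eq_of_le_of_card_ge hle
      (Subgroup.card_map_of_injective β.injective).ge).ge h
    exact β.injective hwy ▸ hw, hB y⟩
  obtain ⟨ψ, hψ, hψe⟩ := FusionAlperin.exists_ext_aut'
    (saturated_receptive_of_fullyNormalized hS hF hfn) hβ hGS (le_inf le_rfl hGn) (by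
      intro g hg
      refine ⟨⟨g, hGn hg⟩, ?_, rfl⟩
      have hin : (layer S (m - 3)).normalizerMonoidHom ⟨g, hGn hg⟩ ∈ autInducedBy S (layer S (m - 3)) :=
        mem_autInducedBy.2 ⟨g, hg, fun _ => rfl⟩
      show β * (layer S (m - 3)).normalizerMonoidHom ⟨g, hGn hg⟩ * β⁻¹ ∈ autInducedBy S (layer S (m - 3))
      have h1 : (⟨_, mul_mem (mul_mem hβ (hAG hin)) (inv_mem hβ)⟩ : F.autGroup (layer S (m - 3))) ∈
          (flagStab ((layer S (m - 2)).subgroupOf (layer S (m - 3))) ((layer S (m - 1)).subgroupOf (layer S (m - 3)))).subgroupOf (F.autGroup (layer S (m - 3))) := conj_mem_flagStab (hind hin) hAiff hBiff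
      rw [heq, hR] at h1
      exact h1)
  have hr : ψ.range = S := range_eq_of_image_le (F.injective_of_mem hψ)
    (by rintro _ ⟨x, rfl⟩; exact map_mem_S F hψ x) le_rfl
  exact ⟨toIso F hψ hr, fun y => (toIso_coe F hψ hr _).trans (hψe y)⟩

theorem gen_of_card {H : Type*} [Group H] [Finite H] {I : Subgroup H} (hI : Nat.card I = p)
    {d : H} (hd : d ∈ I) (hd1 : d ≠ 1) {x : H} (hx : x ∈ I) : ∃ n : ℕ, d ^ n = x := by
  obtain ⟨n, hn⟩ := (isOfFinOrder_of_finite d).mem_powers_iff_mem_zpowers.2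
    (FusionQd.CentralLine.mem_zpowers_of_card hI hd hd1 hx)
  exact ⟨n, hn⟩

/-- No abelian essential subgroup of order `p ^ 3`. -/
theorem false_of_essential (hS : IsPGroup p S) (hp5 : 5 ≤ p) (D : MaxData p m ↥S)
    (F : FusionSystem S) (hF : F.IsSaturated p) (E : Subgroup Ω) (hE : F.IsEssential p E)
    (hcard : Nat.card E = p ^ 3) (hel : IsElementaryAbelian p E) : False := by
  classical
  have hp := (Fact.out : p.Prime)
  have hm := D.hm
  set G := layer S (m - 3) with hG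
  set A := (layer S (m - 2)).subgroupOf G with hAdef
  set B := (layer S (m - 1)).subgroupOf G with hBdef
  obtain ⟨γ, hγF, I, hγ2, hIc, hIA, hγd, hγI, hγC⟩ : ∃ γ ∈ F.autGroup G, ∃ I : Subgroup ↥G,
      γ ^ 2 = 1 ∧ Nat.card I = p ∧ I ≤ A ∧ (∀ y, y⁻¹ * γ y ∈ I) ∧ (∀ i ∈ I, γ i = i⁻¹) ∧
      (¬ I ≤ B → twoStep ↥S (m - 2) ≠ twoStep ↥S 1) :=
    exists_layer_invol hS (by omega) D F hF E hE hcard hel
  have hGS : G ≤ S := layer_le _
  haveI : Finite G := finite_of_le ‹_› hGS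
  let κ : ↥G → ↥S := fun y => ⟨y, hGS y.2⟩
  have hκ : ∀ y, κ y ∈ lcs ↥S (m - 3) := fun y => (mem_layer (x := κ y)).1 y.2
  have hcomm : ∀ x y : G, x * y = y * x := fun x y => Subtype.ext
    (congrArg Subtype.val (D.third_comm (hκ x) (hκ y)) :)
  have hAmem : ∀ y, y ∈ A ↔ κ y ∈ lcs ↥S (m - 2) := fun y => mem_layer (x := κ y)
  have hBmem : ∀ y, y ∈ B ↔ κ y ∈ lcs ↥S (m - 1) := fun y => mem_layer (x := κ y)
  have hsub : ∀ j, m - 3 ≤ j → j ≤ m →
      Nat.card ((layer S j).subgroupOf G) = p ^ (m - j) := fun j hj hjm => by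
    rw [Nat.card_congr (Subgroup.subgroupOfEquivOfLe (show layer S j ≤ G from Subgroup.map_mono
      (Subgroup.lowerCentralSeries_antitone _ hj))).toEquiv, layer,
      Subgroup.card_map_of_injective S.subtype_injective, D.card j (by omega) hjm]
  have hBc : Nat.card B = p := by
    rw [hBdef, hsub _ (by omega) (by omega), show m - (m - 1) = 1 by omega, pow_one]
  have hAc : Nat.card A = p ^ 2 := by
    rw [hAdef, hsub _ (by omega) (by omega), show m - (m - 2) = 2 by omega]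
  have hBA : B ≤ A := Subgroup.comap_mono (Subgroup.map_mono
    (Subgroup.lowerCentralSeries_antitone _ (by omega)))
  have hgen : ∀ H : Subgroup G, B < H → H ≤ A → H = A := by
    intro H h1 h2
    refine Subgroup.eq_of_le_of_card_ge h2 ?_
    have h3 : Nat.card B < Nat.card H :=
      Set.ncard_lt_ncard (SetLike.coe_ssubset_coe.mpr h1) (Set.toFinite _)
    obtain ⟨k, hk⟩ := (Nat.dvd_prime_pow hp).1 (hAc ▸ Subgroup.card_dvd_of_le h2)
    rw [hBc, hk.2] at h3
    rw [hAc, hk.2]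
    exact Nat.pow_le_pow_right hp.pos (by
      by_contra h
      exact absurd ((Nat.pow_le_pow_right hp.pos (show k ≤ 1 by omega)).trans (pow_one p).le)
        (not_le.2 h3))
  -- translate to the weights
  suffices key : ∃ β ∈ F.autGroup G, ∃ a : ℤ, (a = 1 ∨ a = -1) ∧ β ∈ modStab A ∧
      (∀ y ∈ A, (y ^ a)⁻¹ * β y ∈ B) ∧ (∀ z ∈ B, β z = z ^ (-a)) ∧
      (twoStep ↥S (m - 2) = twoStep ↥S 1 → a = 1) by
    obtain ⟨β, hβF, a, ha, hβA, hβμ, hβz, hC⟩ := key
    obtain ⟨ψ, hψ⟩ := exists_extension hS D hF hβF hβA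
      (fun y hy => by rw [hβz y hy]; exact zpow_mem hy _)
    have hψκ : ∀ y, ψ (κ y) = κ (β y) := fun y => Subtype.ext (hψ y)
    have hin : ∀ (j : ℕ), m - 3 ≤ j → ∀ y ∈ lcs ↥S j, ∃ w : G, κ w = y := fun j hj y hy =>
      ⟨⟨(y : Ω), mem_layer.2 (Subgroup.lowerCentralSeries_antitone _ hj hy)⟩, rfl⟩
    refine D.false_of_weights hp5 ψ ha ?_ ?_ ?_ hC
    · intro y hy
      obtain ⟨w, rfl⟩ := hin _ le_rfl y hy
      rw [hψκ]
      exact (hAmem _).1 (hβA w)
    · intro y hy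
      obtain ⟨w, rfl⟩ := hin _ (by omega) y hy
      rw [hψκ, ← map_zpow, eq_comm, ← inv_mul_eq_one, ← map_inv, ← map_mul, q_eq_one]
      have h1 := (hBmem _).1 (hβμ w ((hAmem w).2 hy))
      have e : κ ((w ^ a)⁻¹ * β w) = (κ w ^ a)⁻¹ * κ (β w) :=
        Subtype.ext (by show (((w ^ a)⁻¹ * β w : G) : Ω) = _; push_cast; rfl)
      rwa [e] at h1
    · intro z hz
      obtain ⟨w, rfl⟩ := hin _ (by omega) z hz
      rw [hψκ, hβz w ((hBmem w).2 hz)]
      exact Subtype.ext (by show ((w ^ (-a) : G) : Ω) = _; push_cast; rfl)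
  by_cases hIB : I ≤ B
  · have hIB' : I = B := Subgroup.eq_of_le_of_card_ge hIB (hBc.trans hIc.symm).le
    refine ⟨γ, hγF, 1, Or.inl rfl, fun y => hIA (hγd y), fun y _ => ?_, fun z hz => ?_,
      fun _ => rfl⟩
    · rw [zpow_one]; exact hIB (hγd y)
    · rw [zpow_neg, zpow_one]; exact hγI z (hIB'.ge hz)
  have hne : twoStep ↥S (m - 2) ≠ twoStep ↥S 1 := hγC hIB
  have hIB0 : ∀ x ∈ I, x ∈ B → x = 1 := by
    intro x hxI hxB
    by_contra hx1
    exact hIB (fun w hw => by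
      obtain ⟨n, rfl⟩ := gen_of_card hIc hxI hx1 hw
      exact pow_mem hxB n)
  have hγA : γ ∈ modStab A := fun y => hIA (hγd y)
  obtain ⟨z₀, hz₀, hz₀1⟩ : ∃ z ∈ B, z ≠ 1 := by
    by_contra h
    push Not at h
    rw [(Subgroup.eq_bot_iff_forall _).2 h, Subgroup.card_bot] at hBc
    exact hp.ne_one hBc.symm
  have hBgen : ∀ z ∈ B, ∃ n : ℕ, z₀ ^ n = z := fun z hz => gen_of_card hBc hz₀ hz₀1 hz
  by_cases hfix : γ z₀ ∈ B
  · have hz0 : γ z₀ = z₀ :=
      (inv_mul_eq_one.1 (hIB0 _ (hγd z₀) (mul_mem (inv_mem hz₀) hfix))).symm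
    have hγB : ∀ z ∈ B, γ z = z := fun z hz => by
      obtain ⟨n, rfl⟩ := hBgen z hz
      rw [map_pow, hz0]
    refine ⟨γ, hγF, -1, Or.inr rfl, hγA, fun y hy => ?_, fun z hz => ?_, fun h => absurd h hne⟩
    · have hsup : B ⊔ I = A := hgen _ (lt_of_le_of_ne le_sup_left fun e =>
        hIB (e ▸ le_sup_right)) (sup_le hBA hIA)
      haveI : B.Normal := ⟨fun a ha b => by rwa [hcomm b a, mul_inv_cancel_right]⟩
      obtain ⟨b, hb, i, hi, rfl⟩ := Subgroup.mem_sup_of_normal_left.1 (hsup.ge hy)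
      rw [zpow_neg, zpow_one, inv_inv, map_mul, hγB b hb, hγI i hi,
        show b * i * (b * i⁻¹) = b * b by
          rw [hcomm b i, mul_assoc, ← mul_assoc b b, hcomm (b * b), mul_inv_cancel_left]]
      exact mul_mem hb hb
    · rw [neg_neg, zpow_one]; exact hγB z hz
  -- the centre is moved
  set z₁ := γ z₀ with hz₁
  have hz₁A : z₁ ∈ A := mem_of_modStab hγA (hBA hz₀)
  have hsup : B ⊔ Subgroup.zpowers z₁ = A := hgen _ (lt_of_le_of_ne le_sup_left fun e =>
    hfix (e.ge (Subgroup.mem_sup_right (Subgroup.mem_zpowers z₁))))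
    (sup_le hBA (Subgroup.zpowers_le.2 hz₁A))
  obtain ⟨g, hg⟩ : ∃ g : S, ⁅g, κ z₁⁆ = κ z₀ := by
    obtain ⟨x, hx⟩ : ∃ x : S, x ∉ twoStep ↥S (m - 2) := by
      by_contra h
      push Not at h
      exact MaxClassP.twoStep_ne_top (i := m - 2) D.card (by omega)
        (top_unique fun y _ => h y)
    have hz1m : κ z₁ ∈ lcs ↥S (m - 2) := (hAmem _).1 hz₁A
    have hne1 := comm_not_mem D.card (by omega) (by omega) hz1m
      (by rw [show m - 2 + 1 = m - 1 by omega]; exact fun h => hfix ((hBmem _).2 h)) hx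
    have hxm : ⁅x, κ z₁⁆ ∈ lcs ↥S (m - 1) := comm_mem_lcs (mem_lcs_zero x) hz1m (by omega)
    have hc : Nat.card (lcs ↥S (m - 1)) = p := by
      rw [D.card _ (by omega) (by omega), show m - (m - 1) = 1 by omega, pow_one]
    obtain ⟨n, hn⟩ := gen_of_card hc hxm
      (fun e => hne1 (by rw [e]; exact one_mem _)) ((hBmem z₀).1 hz₀)
    refine ⟨x ^ n, ?_⟩
    have h1 : q (m - 2 + 2) ⁅x ^ n, κ z₁⁆ = q (m - 2 + 2) (κ z₀) := by
      rw [← hn, map_pow]
      exact map_pow (leftCom hz1m) x n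
    rw [← inv_mul_eq_one, ← map_inv, ← map_mul, q_eq_one, show m - 2 + 2 = m by omega,
      D.bot, Subgroup.mem_bot, inv_mul_eq_one] at h1
    exact h1
  set T := G.normalizerMonoidHom ⟨(g : Ω), le_normalizer_layer _ g.2⟩ with hTdef
  have hTF : T ∈ F.autGroup G := autInducedBy_le_autGroup F hGS
    (mem_autInducedBy.2 ⟨(g : Ω), g.2, fun _ => rfl⟩)
  have hTκ : ∀ y, κ (T y) = g * κ y * g⁻¹ := fun y => Subtype.ext rfl
  have hTA : T ∈ modStab A := fun y => (hAmem _).2 (by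
    have e : κ (y⁻¹ * T y) = ⁅(κ y)⁻¹, g⁆ := Subtype.ext (by
      show ((y⁻¹ * T y : G) : Ω) = _
      push_cast
      rw [show ((T y : G) : Ω) = (g : Ω) * y * (g : Ω)⁻¹ from rfl]
      simp [commutatorElement_def, κ, mul_assoc])
    rw [e]
    exact comm_mem_lcs (inv_mem (hκ y)) (mem_lcs_zero g) (by omega))
  have hT0 : T z₀ = z₀ := Subtype.ext (by
    have := congrArg Subtype.val (D.central_last ((hBmem _).1 hz₀) g).symm
    push_cast at this
    show (g : Ω) * (z₀ : Ω) * (g : Ω)⁻¹ = z₀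
    rw [show (g : Ω) * (z₀ : Ω) = (z₀ : Ω) * g from this, mul_inv_cancel_right])
  have hT1 : T z₁ = z₀ * z₁ := Subtype.ext (by
    have := congrArg Subtype.val hg
    simp only [commutatorElement_def] at this
    push_cast at this
    show (g : Ω) * (z₁ : Ω) * (g : Ω)⁻¹ = ((z₀ * z₁ : G) : Ω)
    push_cast
    rw [show ((z₀ : G) : Ω) = (g : Ω) * (z₁ : Ω) * (g : Ω)⁻¹ * (z₁ : Ω)⁻¹ from this.symm,
      inv_mul_cancel_right])
  have hγγ : ∀ y, γ (γ y) = y := fun y => DFunLike.congr_fun ((sq γ).symm.trans hγ2) y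
  have hγ1 : γ z₁ = z₀ := hγγ z₀
  set T' := γ * T * γ with hT'
  have hT'0 : T' z₀ = z₁ * z₀ := by
    show γ (T (γ z₀)) = _
    rw [← hz₁, hT1, map_mul, ← hz₁, hγ1]
  have hT'1 : T' z₁ = z₁ := by
    show γ (T (γ z₁)) = _
    rw [hγ1, hT0]
  set W := T * T'⁻¹ * T with hW
  have hinv0 : T'⁻¹ z₀ = z₁⁻¹ * z₀ := by
    refine T'.injective ?_
    rw [MulAut.apply_inv_self, map_mul, map_inv, hT'1, hT'0, inv_mul_cancel_left]
  have hinv1 : T'⁻¹ z₁ = z₁ := by
    refine T'.injective ?_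
    rw [MulAut.apply_inv_self, hT'1]
  have hW0 : W z₀ = z₁⁻¹ := by
    show T (T'⁻¹ (T z₀)) = _
    rw [hT0, hinv0, map_mul, map_inv, hT1, hT0, mul_inv_rev, mul_assoc, inv_mul_cancel, mul_one]
  have hW1 : W z₁ = z₀ := by
    show T (T'⁻¹ (T z₁)) = _
    rw [hT1, map_mul, hinv0, hinv1, hcomm z₁⁻¹, mul_assoc, inv_mul_cancel, mul_one, hT0]
  set β := W * γ with hβ
  have hβ0 : β z₀ = z₀ := hW1
  have hβ1 : β z₁ = z₁⁻¹ := by
    show W (γ z₁) = _
    rw [hγ1, hW0]
  have hT'F : T' ∈ F.autGroup G := mul_mem (mul_mem hγF hTF) hγF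
  refine ⟨β, mul_mem (mul_mem (mul_mem hTF (inv_mem hT'F)) hTF) hγF, -1, Or.inr rfl,
    mul_mem (mul_mem (mul_mem hTA (inv_mem (mul_mem (mul_mem hγA hTA) hγA))) hTA) hγA,
    fun y hy => ?_, fun z hz => ?_, fun h => absurd h hne⟩
  · haveI : B.Normal := ⟨fun a ha b => by rwa [hcomm b a, mul_inv_cancel_right]⟩
    obtain ⟨b, hb, w, hw, rfl⟩ := Subgroup.mem_sup_of_normal_left.1 (hsup.ge hy)
    obtain ⟨k, rfl⟩ := Subgroup.mem_zpowers_iff.1 hw
    obtain ⟨n, rfl⟩ := hBgen b hb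
    rw [zpow_neg, zpow_one, inv_inv, map_mul, map_pow, map_zpow, hβ0, hβ1, inv_zpow,
      show z₀ ^ n * z₁ ^ k * (z₀ ^ n * (z₁ ^ k)⁻¹) = z₀ ^ n * z₀ ^ n by
        rw [hcomm (z₀ ^ n) (z₁ ^ k), mul_assoc, ← mul_assoc (z₀ ^ n) (z₀ ^ n),
          hcomm (z₀ ^ n * z₀ ^ n), mul_inv_cancel_left]]
    exact mul_mem hb hb
  · obtain ⟨n, rfl⟩ := hBgen z hz
    rw [neg_neg, zpow_one, map_pow, hβ0]

end Cfsg.Agent.MCE
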